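import Cfsg.Agent.Omega.NO3S.Pas.Front
import Cfsg.Agent.Omega.NO3S.Act.PasEnd

/-!
# GammaFF: the KEY and the passive types, instances over the front (#19093, #20445)

`h : Fr S M V F n` (all lines at distance `< n` from the chambers `≥ W` are good), `BL M S V F n` the group `B`.

* `fr_tp` : a bad line at distance `≤ n` of a type with `C_Z(P) = 1` is natural^k or `S_n^k`;
* `fr_root` : **KEY** `[r, W] = [r', W]` for `r, r' ∈ I - F`; `fr_mem` : `[r, W] ≤ V_P`, `r ∈ I`, if `W ≤ S` moves `V_P`;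
* `WFr.act` : `BetaFF.Act S P V F` for active `P`;
* `WFr.pre` : 570's `Pre` for active `P`, passive `P'`;
* `WFr.min`, `WFr.gen`, `WFr.cvq` : the other inputs.
-/

set_option autoImplicit false
set_option linter.unusedSectionVars false

namespace Cfsg.Agent.Omega.NO3S.Pas

open Subgroup Cfsg Cfsg.Agent.ZN Cfsg.Agent.Omega.MinPar Cfsg.Agent.Omega.Frame Cfsg.Agent.Omega.FrameNOFF
open Cfsg.Agent.Omega.NOne.Flat (Hyp EE WW NN BadX Cos card_mul_relIndex' conj_eq_of_norm conj_centralizer WW_conj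
  EE_conj conj_eq_of_cent)
open Cfsg.Agent.Omega.NOne.NearFF (c c_def)
open Cfsg.Agent.Omega.NoFF.Basic (conj_conj mem_conj conj_le_iff conj_le_centralizer comm_symm Gal)
open Cfsg.Agent.Omega.NOThreeL.Low (Tp Blk Fr Ch BB)
open Cfsg.Agent.Omega.NOThreeL.Low.Key (BH)
open Cfsg.Agent.Omega.FrameFF (cv)
open Cfsg.Agent.Omega.FFThm (OffM NoOverM ConclM)
open Cfsg.Agent.ZN.ChoiceSit (Syl)
open scoped Pointwise

universe u

variable {G : Type u} [Group G] [Finite G] {S : Sylow 2 G} {P V F B : Subgroup G}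

section fr

variable {M : Subgroup G} {n : ℕ} (h : Fr S M V F n)
include h

/-- A bad line of a type with `C_Z(P) = 1` is of type natural^k or `S_n^k`. -/
theorem fr_tp (hFF : FFThm.StmtM.{u}) (hlow : zl (S : Subgroup G) P ≤ o2 (CZ (S : Subgroup G)))
    {j : ℕ} (hj : j ≤ n) {g : G} (hg : Ch M (S : Subgroup G) (NOne.Flat.WW V F) j g)
    (hP : IsParS (S : Subgroup G) P) (hcv : cv (S : Subgroup G) P = ⊥)
    (hI : ¬ V ⊓ BL M (S : Subgroup G) V F n ≤ F)
    (hUE : ¬ MulAut.conj g • zl (S : Subgroup G) P ≤ EE V F) : Tp (S : Subgroup G) P := by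
  have hgM : g ∈ M := h.mem_M hg
  have hgV := h.MV hgM
  have hgV' : g⁻¹ ∈ normalizer (V : Set G) := inv_mem hgV
  have eE : EE V (MulAut.conj g⁻¹ • F) = MulAut.conj g⁻¹ • EE V F := (EE_conj hgV').symm
  have b' := (bh h).conj hgV'
  have e1 : V ⊓ MulAut.conj g⁻¹ • BL M (S : Subgroup G) V F n =
      MulAut.conj g⁻¹ • (V ⊓ BL M (S : Subgroup G) V F n) := by
    rw [Subgroup.smul_inf, conj_eq_of_norm hgV']
  have hn : ¬ NO3b.EZero.NotFF (zl (S : Subgroup G) P) := by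
    refine NOThreeL.Low.NonFF.ff (S := S) h.hc hP hlow b'.toHyp b'.le_W b'.F_le b'.abel b'.norm ?_ ?_ (h.zl_le_V hP) ?_
    · rw [e1]
      exact fun h1 => hI (conj_le_iff.1 h1)
    · have h2 := conj_le_iff (g := g⁻¹).2 (BL_le_conj h hj hg)
      rwa [conj_conj, inv_mul_cancel, map_one, one_smul] at h2
    · intro h2
      apply hUE
      rw [eE] at h2
      have h3 := conj_le_iff (g := g).2 h2
      rwa [conj_conj, mul_inv_cancel, map_one, one_smul] at h3
  obtain ⟨A, hA, ho⟩ := NOThreeL.Low.exists_off (hP.le.trans (MinSimple.VModule.le_normalizer_zl _ _)) hn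
  obtain ⟨-, hcon⟩ := hFF G (S : Subgroup G) P (MinSimple.EmptyTI.syl_of_le hP.le)
    hP.toIsMinPar (hP.isLoc.char2 S h.hc) ⟨A, hA.trans hP.le, ho⟩
  unfold ConclM at hcon
  rw [hcv] at hcon
  exact hcon

/-- **KEY** `[r, W] = [r', W]` for `r, r' ∈ I - F`. -/
theorem fr_root (hkey : F.relIndex (V ⊓ BL M (S : Subgroup G) V F n) ≤ (EE V F).relIndex V) {r r' s : G}
    (hr : r ∈ V ⊓ BL M (S : Subgroup G) V F n) (hrF : r ∉ F)
    (hr' : r' ∈ V ⊓ BL M (S : Subgroup G) V F n) (hr'F : r' ∉ F) (hs : s ∈ NOne.Flat.WW V F) :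
    ∃ t ∈ NOne.Flat.WW V F, c r' t = c r s := by
  obtain ⟨b, hb, hbN⟩ := (bh h).exists_not_mem_NN fun h1 => hrF (h1 hr)
  exact ((bh h).root hkey hr' hr'F hb hbN _).2 (((bh h).root hkey hr hrF hb hbN _).1 ⟨s, hs, rfl⟩)

/-- `[r, W] ≤ L` for `r ∈ I`, if `L ≤ I` is `W`-invariant and moved by `W`. -/
theorem fr_mem (hkey : F.relIndex (V ⊓ BL M (S : Subgroup G) V F n) ≤ (EE V F).relIndex V) {L : Subgroup G}
    (hL : L ≤ V ⊓ BL M (S : Subgroup G) V F n) (hWL : NOne.Flat.WW V F ≤ normalizer (L : Set G))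
    (hmov : ¬ NOne.Flat.WW V F ≤ centralizer (L : Set G)) :
    ∀ r ∈ V ⊓ BL M (S : Subgroup G) V F n, ∀ s ∈ NOne.Flat.WW V F, c r s ∈ L := by
  intro r hr s hs
  by_cases hrF : r ∈ F
  · rw [NOne.Flat.Hyp.c_F hrF hs]
    exact one_mem _
  · obtain ⟨l, hl, hlF⟩ : ∃ l ∈ L, l ∉ F := by
      by_contra hcon
      push Not at hcon
      apply hmov
      intro w hw
      rw [mem_centralizer_iff]
      exact fun l hl => NOne.Flat.Hyp.F_comm (hcon l hl) (NOne.Flat.Hyp.W_le_X hw)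
    obtain ⟨t, ht, e⟩ := fr_root h hkey hr hrF (hL hl) hlF hs
    rw [← e]
    exact NOThreeL.Low.Key.c_mem_left hl (hWL ht)

end fr

namespace WFr

variable {M : Subgroup G} (w : WFr S M V F)
include w

theorem PV {R : Subgroup G} (hR : IsParS (S : Subgroup G) R) : R ≤ normalizer (V : Set G) := (w.PM R hR).trans w.MV

theorem zl_le_V {R : Subgroup G} (hR : IsParS (S : Subgroup G) R) : zl (S : Subgroup G) R ≤ V :=
  MinSimple.VModule.zl_le w.ZV (w.PV hR)

theorem zl_le_E {R : Subgroup G} (hR : IsParS (S : Subgroup G) R) : zl (S : Subgroup G) R ≤ EE V F := by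
  have h1 := w.good (one_mem M) (by rw [map_one, one_smul]; exact w.WS) hR
  rwa [map_one, one_smul] at h1

/-- `W ≰ O₂(P)` : `W` moves `V_P`. -/
theorem mov (hP : IsParS (S : Subgroup G) P) (hact : ¬ NOne.Flat.WW V F ≤ o2 P) :
    ¬ NOne.Flat.WW V F ≤ centralizer (zl (S : Subgroup G) P : Set G) := fun h1 => hact (by
  rw [← hP.inf_centralizer S w.hc]
  exact le_inf w.WS h1)

/-- `W ≤ O₂(P)` : `V_P ≤ F`. -/
theorem zl_le_F (hP : IsParS (S : Subgroup G) P) (hpas : NOne.Flat.WW V F ≤ o2 P) : zl (S : Subgroup G) P ≤ F := by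
  rw [← w.hyp.cent_VW]
  refine le_inf (w.zl_le_V hP) (comm_symm ?_)
  rw [← hP.inf_centralizer S w.hc] at hpas
  exact hpas.trans inf_le_right

/-- the active types: `BetaFF.Act` -/
theorem act (hP : IsParS (S : Subgroup G) P) (hcv : cv (S : Subgroup G) P = ⊥) (hact : ¬ NOne.Flat.WW V F ≤ o2 P) :
    BetaFF.Act S P V F where
  char2 := w.hc
  par := hP
  cv := hcv
  hyp := w.hyp
  PV := w.PV hP
  LE := w.zl_le_E hP
  WS := w.WS
  mov := w.mov hP hact
  lines := fun x hx => by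
    have h1 := (w.fr hP).gal (Nat.zero_le 1) (Nat.zero_le 1) w.ch_one w.ch_one hP hP
      (by rw [map_one, one_smul]; exact w.zl_le_E hP) (by rw [map_one, one_smul]; exact w.zl_le_E hP) hx
    rw [mul_one, map_one, one_smul] at h1
    exact comm_symm h1

theorem PQ (hP : IsParS (S : Subgroup G) P) :
    P ≤ normalizer (((S : Subgroup G) ⊓ centralizer (zl (S : Subgroup G) P : Set G) : Subgroup G) : Set G) := by
  rw [hP.inf_centralizer S w.hc]
  exact MinSimple.VModule.le_normalizer_o2 P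

/-- **570's `Pre`** for active `P`, passive `P'`. -/
theorem pre {P' : Subgroup G} (hP : IsParS (S : Subgroup G) P) (hP' : IsParS (S : Subgroup G) P')
    (hact : ¬ NOne.Flat.WW V F ≤ o2 P) (hpas : NOne.Flat.WW V F ≤ o2 P') :
    Pre (S : Subgroup G) V F (BL M (S : Subgroup G) V F 1) P P' (zl (S : Subgroup G) P)
      (zl (S : Subgroup G) P') where
  toBH := bh (w.fr hP)
  SP := hP.le
  SP' := hP'.le
  PV := w.PV hP
  PV' := w.PV hP'
  PL := MinSimple.VModule.le_normalizer_zl _ _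
  Pc := MinSimple.VModule.le_normalizer_zl _ _
  PQ := w.PQ hP
  WS := w.WS
  WS' := fun g hg => by
    have h1 := conj_le_iff (g := g).2 hpas
    rw [conj_eq_of_norm (MinSimple.VModule.le_normalizer_o2 P' hg)] at h1
    exact h1.trans (hP'.isLoc.o2_le S)
  LV := w.zl_le_V hP
  LB := w.zl_le_BL hP
  mov := w.mov hP hact
  cF := w.zl_le_F hP' hpas
  line := fun y hy hW => w.line_le_BL (sup_le (w.PM P hP) (w.PM P' hP') hy) hW hP'

/-- `min` of `Pre.pas` -/
theorem min (hP : IsParS (S : Subgroup G) P) {N : Subgroup G} (hN : N ≤ P) (hn : P ≤ normalizer (N : Set G))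
    (ha : ∃ a ∈ N, a ∈ (S : Subgroup G) ∧ a ∉ centralizer (zl (S : Subgroup G) P : Set G)) :
    P ≤ N ⊔ (S : Subgroup G) := by
  rcases hP.toIsPar.sup_eq_or_inf_le S hN hn with h1 | h1
  · exact h1.ge
  · obtain ⟨a, haN, haS, hac⟩ := ha
    have h2 := h1 (mem_inf.2 ⟨haS, haN⟩)
    rw [← hP.inf_centralizer S w.hc] at h2
    exact absurd h2.2 hac

/-- `gen` of `Pre.c_le_L` -/
theorem gen (hP : IsParS (S : Subgroup G) P) (hact : ¬ NOne.Flat.WW V F ≤ o2 P) {N : Subgroup G} (hN : N ≤ P)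
    (hn : P ≤ normalizer (N : Set G)) (hW : NOne.Flat.WW V F ≤ N) : P ≤ N ⊔ (S : Subgroup G) := by
  rcases hP.toIsPar.sup_eq_or_inf_le S hN hn with h1 | h1
  · exact h1.ge
  · exact absurd ((le_inf w.WS hW).trans h1) hact

/-- `hc` of `Pre.pas` -/
theorem zl_le_of {X : Subgroup G} (hX : P ≤ normalizer (X : Set G))
    (hZ : zc (S : Subgroup G) ≤ X) : zl (S : Subgroup G) P ≤ X := MinSimple.VModule.zl_le hZ hX

/-- `hsp` of `Pre.pas` -/
theorem hsp (hFF : FFThm.StmtM.{u}) {P' : Subgroup G} (hP : IsParS (S : Subgroup G) P)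
    (hP' : IsParS (S : Subgroup G) P') (hcv : cv (S : Subgroup G) P' = ⊥)
    (hI : ¬ V ⊓ BL M (S : Subgroup G) V F 1 ≤ F) {p : G} (hp : p ∈ P)
    (hUE : ¬ MulAut.conj p • zl (S : Subgroup G) P' ≤ EE V F) :
    ∀ v ∈ V, ∃ x ∈ MulAut.conj p • zl (S : Subgroup G) P', ∃ e ∈ EE V F, v = x * e := fun _ hv =>
  fr_span (w.fr hP) le_rfl (w.ch_par hP hp) hP'
    (fr_tp (w.fr hP) hFF (w.low P' hP') le_rfl (w.ch_par hP hp) hP' hcv hI hUE) hUE hI hv

end WFr

end Cfsg.Agent.Omega.NO3S.Pas
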