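import Cfsg.Agent.Omega.NO3S.Pas.Inst

/-!
# GammaFF: the passive types, radicals allowed (helper905 #21048 (K2), helper793 #20445 (P1))

* `Key V F B` : the conclusion of the KEY, `[r, W] = [E, b]` for `r ∈ I - F`, `b ∈ B - N`;
* `two` : `d ≤ V`, `d ≰ E`, `B ≤ N(d)`, `d ∩ ρ = 1`, `[E, B] ≤ ρ`, `B` no over-offender on `d` ⟹ `|I : F| ≤ |d : d ∩ E|`;
* `WFr.hsp'` : so `V = V_P'^p E` for a bad line `V_P'^p`, `p ∈ P` with `V_P'^p ∩ ρ = 1` (`P` active, `P'` passive);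
* `WFr.pas` : `V_P'^p ≤ E`;
* `WFr.le_of_good` : `V_P'^p ≤ E` for one `p` with `P = ⟨S, W^(p⁻¹)⟩` ⟹ `V_P' ≤ V_P`.
-/

set_option autoImplicit false
set_option linter.unusedSectionVars false

namespace Cfsg.Agent.Omega.NO3S.Pas

open Subgroup Cfsg Cfsg.Agent.ZN Cfsg.Agent.Omega.MinPar Cfsg.Agent.Omega.Frame Cfsg.Agent.Omega.FrameNOFF
open Cfsg.Agent.Omega.NOne.Flat (EE NN BadX Cos card_mul_relIndex' conj_eq_of_norm conj_centralizer WW_conj
  EE_conj conj_eq_of_cent)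
open Cfsg.Agent.Omega.NOne.NearFF (c c_def)
open Cfsg.Agent.Omega.NoFF.Basic (conj_conj mem_conj conj_le_iff conj_le_centralizer comm_symm Gal)
open Cfsg.Agent.Omega.NOThreeL.Low (Tp Blk Fr Ch BB)
open Cfsg.Agent.Omega.NOThreeL.Low.Key (BH)
open Cfsg.Agent.Omega.FrameFF (cv)
open Cfsg.Agent.Omega.FFThm (ElemM OffM NoOverM ConclM relIndex_le_iff)
open Cfsg.Agent.ZN.ChoiceSit (Syl)
open scoped Pointwise

universe u

variable {G : Type u} [Group G] [Finite G] {S : Sylow 2 G} {P V F B : Subgroup G}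

/-- The KEY: `[r, W] = [E, b]` for `r ∈ I - F`, `b ∈ B - N`. -/
def Key (V F B : Subgroup G) : Prop :=
  ∀ r ∈ V ⊓ B, r ∉ F → ∀ b ∈ B, b ∉ NN V F → ∀ y,
    (∃ s ∈ NOne.Flat.WW V F, c r s = y) ↔ ∃ e ∈ EE V F, c e b = y

theorem key_of_le (h : BH V F B) (hle : F.relIndex (V ⊓ B) ≤ (EE V F).relIndex V) : Key V F B :=
  fun _ hr hrF _ hb hbN y => h.root hle hr hrF hb hbN y

section abs

variable (h : BH V F B)
include h

/-- `[r, W] ≤ [L, W]` -/
theorem Key.mem (hk : Key V F B) {L : Subgroup G} (hL : L ≤ V ⊓ B) (hmov : ¬ NOne.Flat.WW V F ≤ centralizer (L : Set G))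
    {r s : G} (hr : r ∈ V ⊓ B) (hs : s ∈ NOne.Flat.WW V F) : c r s ∈ ⁅L, NOne.Flat.WW V F⁆ := by
  by_cases hrF : r ∈ F
  · rw [NOne.Flat.Hyp.c_F hrF hs]
    exact one_mem _
  · obtain ⟨l, hl, hlF⟩ : ∃ l ∈ L, l ∉ F := by
      by_contra hcon
      push Not at hcon
      apply hmov
      intro w hw
      rw [mem_centralizer_iff]
      exact fun l hl => NOne.Flat.Hyp.F_comm (hcon l hl) (NOne.Flat.Hyp.W_le_X hw)
    obtain ⟨b, hb, hbN⟩ := h.exists_not_mem_NN fun h1 => hrF (h1 hr)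
    obtain ⟨t, ht, e⟩ := (hk l (hL hl) hlF b hb hbN _).2 ((hk r hr hrF b hb hbN _).1 ⟨s, hs, rfl⟩)
    rw [← e, c_def]
    exact commutator_mem_commutator hl ht

/-- `[E, B] ≤ [L, W]` -/
theorem Key.mem_EB (hk : Key V F B) {L : Subgroup G} (hL : L ≤ V ⊓ B)
    (hmov : ¬ NOne.Flat.WW V F ≤ centralizer (L : Set G)) {e b : G} (he : e ∈ EE V F) (hb : b ∈ B) :
    c e b ∈ ⁅L, NOne.Flat.WW V F⁆ := by
  obtain ⟨l, hl, hlF⟩ : ∃ l ∈ L, l ∉ F := by
    by_contra hcon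
    push Not at hcon
    apply hmov
    intro w hw
    rw [mem_centralizer_iff]
    exact fun l hl => NOne.Flat.Hyp.F_comm (hcon l hl) (NOne.Flat.Hyp.W_le_X hw)
  by_cases hbN : b ∈ NN V F
  · have h1 := mem_centralizer_iff.1 hbN.2 e he
    rw [NOThreeL.Low.Key.c_eq_one' h1]
    exact one_mem _
  · obtain ⟨s, hs, e1⟩ := (hk l (hL hl) hlF b hb hbN _).2 ⟨e, he, rfl⟩
    rw [← e1, c_def]
    exact commutator_mem_commutator hl hs

/-- `B` offends on `d`. -/
theorem off_d {d ρ : Subgroup G} (hdV : d ≤ V) (hdE : ¬ d ≤ EE V F) (hBd : B ≤ normalizer (d : Set G))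
    (hI : ¬ V ⊓ B ≤ F) (hEB : ∀ e ∈ EE V F, ∀ b ∈ B, c e b ∈ ρ) (hdρ : d ⊓ ρ = ⊥) :
    ¬ B ≤ centralizer (d : Set G) ∧ (centralizer (B : Set G)).relIndex d ≤ (EE V F).relIndex d ∧
      (EE V F).relIndex d ≤ F.relIndex (V ⊓ B) ∧ F.relIndex (V ⊓ B) ≤ (centralizer (d : Set G)).relIndex B := by
  obtain ⟨w, hw, hwE⟩ := SetLike.not_le_iff_exists.1 hdE
  refine ⟨fun h1 => ?_, ?_, ?_, ?_⟩
  · obtain ⟨b, hb, hbN⟩ := h.exists_not_mem_NN hI
    refine hbN (h.mem_NN_of_c (hdV hw) hwE hb ?_)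
    rw [NOThreeL.Low.Key.c_eq_one' (mem_centralizer_iff.1 (h1 hb) w hw)]
    exact one_mem _
  · rw [← inf_relIndex_right (EE V F) d]
    refine relIndex_le_of_le_left ?_ index_ne_zero_of_finite
    rintro e ⟨he1, he2⟩
    rw [mem_centralizer_iff]
    intro b hb
    have h1 : c e b ∈ d ⊓ ρ := ⟨NOThreeL.Low.Key.c_mem_left he2 (hBd hb), hEB e he1 b hb⟩
    rw [hdρ, mem_bot] at h1
    exact (NOThreeL.Low.Key.comm_of_c h1).symm
  · exact (relIndex_le_of_le_right hdV index_ne_zero_of_finite).trans (h.relIndex_V_le hI)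
  · rw [← h.relIndex_B, ← inf_relIndex_right (centralizer (d : Set G)) B]
    refine relIndex_le_of_le_left ?_ index_ne_zero_of_finite
    rintro b ⟨hb1, hb2⟩
    refine h.mem_NN_of_c (hdV hw) hwE hb2 ?_
    rw [NOThreeL.Low.Key.c_eq_one' (mem_centralizer_iff.1 hb1 w hw)]
    exact one_mem _

/-- `B` acts on `d ≤ V` as an elementary abelian group. -/
theorem elem_d {d : Subgroup G} (hdV : d ≤ V) : ElemM d B where
  sq := fun b hb => by
    rw [pow_two, mem_centralizer_iff]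
    intro x hx
    exact (NOne.Flat.Hyp.F_comm (h.toHyp.sq_W (h.le_W hb)) (h.toHyp.V_le_X (hdV hx))).symm
  comm := fun a ha b hb => by
    rw [h.B_comm ha hb, mul_inv_cancel_right, mul_inv_cancel]
    exact one_mem _

/-- **(K2)** `|I : F| ≤ |d : d ∩ E|`. -/
theorem two {d ρ : Subgroup G} (hdV : d ≤ V) (hdE : ¬ d ≤ EE V F) (hBd : B ≤ normalizer (d : Set G))
    (hI : ¬ V ⊓ B ≤ F) (hEB : ∀ e ∈ EE V F, ∀ b ∈ B, c e b ∈ ρ) (hdρ : d ⊓ ρ = ⊥)
    (hno : OffM d B → (centralizer (d : Set G)).relIndex B ≤ (centralizer (B : Set G)).relIndex d) :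
    F.relIndex (V ⊓ B) ≤ (EE V F).relIndex d := by
  obtain ⟨h1, h2, h3, h4⟩ := off_d h hdV hdE hBd hI hEB hdρ
  exact h4.trans ((hno ⟨elem_d h hdV, h1, relIndex_le_iff.2 (h2.trans (h3.trans h4))⟩).trans h2)

end abs

/-- The FF theorem for a conjugate of `V_P'`. -/
theorem noOver_conj (hFF : FFThm.StmtM.{u}) (hc : IsCharacteristicTwoType G) (hP : IsParS (S : Subgroup G) P)
    {p : G} {A : Subgroup G} (hA : A ≤ MulAut.conj p • (S : Subgroup G))
    (hoff : OffM (MulAut.conj p • zl (S : Subgroup G) P) A) :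
    (centralizer ((MulAut.conj p • zl (S : Subgroup G) P : Subgroup G) : Set G)).relIndex A ≤
      (centralizer (A : Set G)).relIndex (MulAut.conj p • zl (S : Subgroup G) P : Subgroup G) := by
  set A' : Subgroup G := MulAut.conj p⁻¹ • A with hA'
  have eA : A = MulAut.conj p • A' := by rw [hA', conj_conj, mul_inv_cancel, map_one, one_smul]
  have hA'S : A' ≤ (S : Subgroup G) := by
    have h2 := conj_le_iff (g := p⁻¹).2 hA
    rwa [conj_conj, inv_mul_cancel, map_one, one_smul] at h2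
  have e1 : (centralizer ((MulAut.conj p • zl (S : Subgroup G) P : Subgroup G) : Set G)).relIndex A =
      (centralizer (zl (S : Subgroup G) P : Set G)).relIndex A' := by
    rw [← conj_centralizer, eA, relIndex_pointwise_smul]
  have e2 : (centralizer (A : Set G)).relIndex (MulAut.conj p • zl (S : Subgroup G) P : Subgroup G) =
      (centralizer (A' : Set G)).relIndex (zl (S : Subgroup G) P) := by
    rw [eA, ← conj_centralizer, relIndex_pointwise_smul]
  have ho : OffM (zl (S : Subgroup G) P) A' := by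
    have h1 := NO3b.Bang.OffM_cj hoff p⁻¹
    have h2 : ∀ X : Subgroup G, ZN.ChoiceBase.cj p⁻¹ X = MulAut.conj p⁻¹ • X := fun X => rfl
    rw [h2, h2, conj_conj, inv_mul_cancel, map_one, one_smul] at h1
    exact h1
  rw [e1, e2]
  obtain ⟨hno, -⟩ := hFF G (S : Subgroup G) P (MinSimple.EmptyTI.syl_of_le hP.le)
    hP.toIsMinPar (hP.isLoc.char2 S hc) ⟨A', hA'S.trans hP.le, ho⟩
  exact relIndex_le_iff.1 (hno A' (hA'S.trans hP.le) ho.toElemM)

namespace WFr

variable {M : Subgroup G} (w : WFr S M V F)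
include w

/-- `I ≰ F` if there is an active type. -/
theorem not_I_le (hP : IsParS (S : Subgroup G) P) (hact : ¬ NOne.Flat.WW V F ≤ o2 P) :
    ¬ V ⊓ BL M (S : Subgroup G) V F 1 ≤ F := by
  intro h1
  apply w.mov hP hact
  intro s hs
  rw [mem_centralizer_iff]
  exact fun l hl => NOne.Flat.Hyp.F_comm (h1 ⟨w.zl_le_V hP hl, w.zl_le_BL hP hl⟩) (NOne.Flat.Hyp.W_le_X hs)

theorem L_le_I (hP : IsParS (S : Subgroup G) P) : zl (S : Subgroup G) P ≤ V ⊓ BL M (S : Subgroup G) V F 1 :=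
  le_inf (w.zl_le_V hP) (w.zl_le_BL hP)

/-- **(K2)** `V = V_P'^p E` -/
theorem hsp' (hFF : FFThm.StmtM.{u}) {P' : Subgroup G} (hP : IsParS (S : Subgroup G) P)
    (hP' : IsParS (S : Subgroup G) P') (hact : ¬ NOne.Flat.WW V F ≤ o2 P)
    (hk : Key V F (BL M (S : Subgroup G) V F 1)) {p : G} (hp : p ∈ P)
    (hρ : MulAut.conj p • zl (S : Subgroup G) P' ⊓ ⁅zl (S : Subgroup G) P, NOne.Flat.WW V F⁆ = ⊥)
    (hUE : ¬ MulAut.conj p • zl (S : Subgroup G) P' ≤ EE V F) :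
    ∀ v ∈ V, ∃ x ∈ MulAut.conj p • zl (S : Subgroup G) P', ∃ e ∈ EE V F, v = x * e := by
  have hf := w.fr hP
  have hb := bh hf
  have hI := w.not_I_le hP hact
  have hBS := BL_le_conj hf le_rfl (w.ch_par hP hp)
  have hdV := hf.line_le_V (w.PM P hP hp) hP'
  have hBd : BL M (S : Subgroup G) V F 1 ≤
      normalizer ((MulAut.conj p • zl (S : Subgroup G) P' : Subgroup G) : Set G) := by
    refine hBS.trans ?_
    intro x hx
    rw [mem_conj] at hx
    have h1 := MinSimple.VModule.le_normalizer_zl (S : Subgroup G) P' (hP'.le hx)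
    rw [mem_normalizer_iff] at h1 ⊢
    intro y
    rw [mem_conj, mem_conj]
    have e : p⁻¹ * (x * y * x⁻¹) * p = p⁻¹ * x * p * (p⁻¹ * y * p) * (p⁻¹ * x * p)⁻¹ := by group
    rw [e]
    exact h1 _
  have h3 := two hb hdV hUE hBd hI (fun e he b hb' => hk.mem_EB hb (w.L_le_I hP) (w.mov hP hact) he hb') hρ
    (noOver_conj hFF w.hc hP' hBS)
  intro v hv
  have hcos : Cos id (MulAut.conj p • zl (S : Subgroup G) P') (EE V F) V (EE V F) :=
    ⟨fun u hu => hdV hu, fun _ _ _ _ => Iff.rfl⟩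
  obtain ⟨x, hx, hxv⟩ := hcos.surj ((hb.relIndex_V_le hI).trans h3) hv
  exact ⟨x, hx, x⁻¹ * v, hxv, by group⟩

/-- **THEOREM PAS** (#20445 (P1), radicals of `P'` allowed): `V_P'^p ≤ E` if `V_P'^p ∩ ρ = 1`. -/
theorem pas (hFF : FFThm.StmtM.{u}) {P' : Subgroup G} (hP : IsParS (S : Subgroup G) P)
    (hP' : IsParS (S : Subgroup G) P') (hact : ¬ NOne.Flat.WW V F ≤ o2 P) (hpas : NOne.Flat.WW V F ≤ o2 P')
    (hk : Key V F (BL M (S : Subgroup G) V F 1)) {rho : Subgroup G} (hrho : rho ≤ zl (S : Subgroup G) P)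
    (dich : ∀ k ∈ P', MulAut.conj k • NOne.Flat.WW V F ≤ centralizer (zl (S : Subgroup G) P : Set G) ∨
      ∃ s ∈ (S : Subgroup G), MulAut.conj k • rho = MulAut.conj s • rho)
    (hZ : zc (S : Subgroup G) ≤ ⨆ s : (S : Subgroup G), MulAut.conj (s : G) • rho)
    {p : G} (hp : p ∈ P)
    (hρ : MulAut.conj p • zl (S : Subgroup G) P' ⊓ ⁅zl (S : Subgroup G) P, NOne.Flat.WW V F⁆ = ⊥) :
    MulAut.conj p • zl (S : Subgroup G) P' ≤ EE V F :=
  (w.pre hP hP' hact hpas).pas (rho := rho) dich rfl hrho (fun _ hN hn ha => w.min hP' hN hn ha) hZ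
    (fun _ hX hZX => w.zl_le_of hX hZX) hp (w.hsp' hFF hP hP' hact hk hp hρ)

/-- `[r, W] ≤ L` for `r ∈ I` -/
theorem comm_I (hP : IsParS (S : Subgroup G) P) (hact : ¬ NOne.Flat.WW V F ≤ o2 P)
    (hk : Key V F (BL M (S : Subgroup G) V F 1)) {r s : G} (hr : r ∈ V ⊓ BL M (S : Subgroup G) V F 1)
    (hs : s ∈ NOne.Flat.WW V F) : c r s ∈ zl (S : Subgroup G) P := by
  have h1 := hk.mem (bh (w.fr hP)) (w.L_le_I hP) (w.mov hP hact) hr hs
  refine (commutator_le.2 fun l hl t ht => ?_ : ⁅zl (S : Subgroup G) P, NOne.Flat.WW V F⁆ ≤ zl (S : Subgroup G) P) h1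
  rw [commutatorElement_def, ← c_def]
  exact NOThreeL.Low.Key.c_mem_left hl (MinSimple.VModule.le_normalizer_zl _ _ (hP.le (w.WS ht)))

/-- `V_P'^p ≤ E` for one `p ∈ P` with `P = ⟨S, W^(p⁻¹)⟩` ⟹ `V_P' ≤ V_P`. -/
theorem le_of_good (hP : IsParS (S : Subgroup G) P) {P' : Subgroup G}
    (hP' : IsParS (S : Subgroup G) P') (hact : ¬ NOne.Flat.WW V F ≤ o2 P) (hpas : NOne.Flat.WW V F ≤ o2 P')
    (hk : Key V F (BL M (S : Subgroup G) V F 1))
    (irr : ∀ X : Subgroup G, X ≤ V → P ≤ normalizer (X : Set G) → X ≠ ⊥ → zl (S : Subgroup G) P ≤ X)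
    (cvq : V ⊓ centralizer (o2 P : Set G) ≤ zl (S : Subgroup G) P) {p : G} (hp : p ∈ P)
    (hgen : P ≤ (S : Subgroup G) ⊔ MulAut.conj p⁻¹ • NOne.Flat.WW V F)
    (hgood : MulAut.conj p • zl (S : Subgroup G) P' ≤ EE V F) :
    zl (S : Subgroup G) P' ≤ zl (S : Subgroup G) P := by
  have hf := w.fr hP
  set L : Subgroup G := zl (S : Subgroup G) P with hL
  set d : Subgroup G := zl (S : Subgroup G) P' with hd
  have hLV : L ≤ V := w.zl_le_V hP
  have hdV : d ≤ V := w.zl_le_V hP'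
  have hPL : P ≤ normalizer (L : Set G) := MinSimple.VModule.le_normalizer_zl _ _
  have hPd : P' ≤ normalizer (d : Set G) := MinSimple.VModule.le_normalizer_zl _ _
  have hdL : d ≤ normalizer (L : Set G) := by
    refine le_trans ?_ (centralizer_le_normalizer _)
    exact hdV.trans (w.hyp.comm.trans (centralizer_le hLV))
  have hLd : L ≤ normalizer (d : Set G) := by
    refine le_trans ?_ (centralizer_le_normalizer _)
    exact hLV.trans (w.hyp.comm.trans (centralizer_le hdV))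
  -- `A = V_P' V_P`
  set A : Subgroup G := d ⊔ L with hA
  have hAV : A ≤ V := sup_le hdV hLV
  have hgI : MulAut.conj p • d ≤ BL M (S : Subgroup G) V F 1 :=
    (Fr.le_BB' (Fr.mem_Gd le_rfl (w.ch_par hP hp) hP' hgood)).trans le_sup_left
  have hAI : MulAut.conj p • A ≤ V ⊓ BL M (S : Subgroup G) V F 1 := by
    refine le_inf ?_ ?_
    · have h1 := conj_le_iff (g := p).2 hAV
      rwa [conj_eq_of_norm (w.PV hP hp)] at h1
    · rw [hA, Subgroup.smul_sup]
      refine sup_le hgI ?_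
      rw [conj_eq_of_norm (hPL hp)]
      exact w.zl_le_BL hP
  -- `[A, W^(p⁻¹)] ≤ L`
  have hAW : ∀ x ∈ A, ∀ s ∈ MulAut.conj p⁻¹ • NOne.Flat.WW V F, c x s ∈ L := by
    intro x hx s hs
    rw [mem_conj, inv_inv] at hs
    have hx' : p * x * p⁻¹ ∈ V ⊓ BL M (S : Subgroup G) V F 1 := hAI (NOne.Frame.conj_mem hx)
    have h1 := w.comm_I hP hact hk hx' hs
    have h2 := (mem_normalizer_iff.1 (hPL (inv_mem hp)) _).1 h1
    have e : p⁻¹ * c (p * x * p⁻¹) (p * s * p⁻¹) * p⁻¹⁻¹ = c x s := by rw [c_def, c_def]; group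
    rwa [e] at h2
  have hSA : (S : Subgroup G) ≤ normalizer (A : Set G) := by
    intro s hs
    have h1 : MulAut.conj s • A = A := by
      rw [hA, Subgroup.smul_sup, conj_eq_of_norm (hPd (hP'.le hs)), conj_eq_of_norm (hPL (hP.le hs))]
    rw [mem_normalizer_iff]
    intro y
    constructor
    · intro hy
      rw [← h1]
      exact NOne.Frame.conj_mem hy
    · intro hy
      rw [← h1, mem_conj] at hy
      have e : s⁻¹ * (s * y * s⁻¹) * s = y := by group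
      rwa [e] at hy
  have hWA : MulAut.conj p⁻¹ • NOne.Flat.WW V F ≤ normalizer (A : Set G) := by
    have key : ∀ s ∈ MulAut.conj p⁻¹ • NOne.Flat.WW V F, ∀ x ∈ A, s * x * s⁻¹ ∈ A := by
      intro s hs x hx
      have e : s * x * s⁻¹ = x * c x⁻¹ s := by rw [c_def]; group
      rw [e]
      exact mul_mem hx (le_sup_right (a := d) (hAW x⁻¹ (inv_mem hx) s hs))
    intro s hs
    rw [mem_normalizer_iff]
    intro y
    refine ⟨key s hs y, fun hy => ?_⟩
    have h1 := key s⁻¹ (inv_mem hs) _ hy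
    have e : s⁻¹ * (s * y * s⁻¹) * s⁻¹⁻¹ = y := by group
    rwa [e] at h1
  have hPA : P ≤ normalizer (A : Set G) := hgen.trans (sup_le hSA hWA)
  -- `X = [A, Q]`
  set X : Subgroup G := closure {y | ∃ u ∈ A, ∃ q ∈ o2 P, y = c u q} with hX
  have hQS : o2 P ≤ (S : Subgroup G) := hP.isLoc.o2_le S
  have hQL : o2 P ≤ centralizer (L : Set G) := by
    rw [← hP.inf_centralizer S w.hc]
    exact inf_le_right
  have hXc : X ≤ d := by
    rw [hX, closure_le]
    rintro y ⟨u, hu, q, hq, rfl⟩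
    obtain ⟨l, hl, x, hx, rfl⟩ := mem_sup_of_norm hdL (by rw [sup_comm]; exact hu)
    have hql : q * l⁻¹ * q⁻¹ = l⁻¹ := by
      have h1 := mem_centralizer_iff.1 (hQL hq) l⁻¹ (inv_mem hl)
      rw [← h1, mul_inv_cancel_right]
    have h2 : q * x⁻¹ * q⁻¹ ∈ d := (mem_normalizer_iff.1 (hPd (hP'.le (hQS hq))) _).1 (inv_mem hx)
    have h3 : x * (q * x⁻¹ * q⁻¹) ∈ d := mul_mem hx h2
    have e1 : c (l * x) q = l * (x * (q * x⁻¹ * q⁻¹)) * (q * l⁻¹ * q⁻¹) := by rw [c_def]; group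
    rw [SetLike.mem_coe, e1, hql, w.hyp.V_comm (hLV hl) (hdV h3), mul_inv_cancel_right]
    exact h3
  have hPX : P ≤ normalizer (X : Set G) := by
    have key : ∀ t ∈ P, ∀ x ∈ X, t * x * t⁻¹ ∈ X := by
      intro t ht x hx
      induction hx using closure_induction with
      | mem x hx =>
        obtain ⟨u, hu, q, hq, rfl⟩ := hx
        refine subset_closure ⟨t * u * t⁻¹, (mem_normalizer_iff.1 (hPA ht) _).1 hu, t * q * t⁻¹,
          (mem_normalizer_iff.1 (MinSimple.VModule.le_normalizer_o2 P ht) _).1 hq, ?_⟩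
        rw [c_def, c_def]
        group
      | one => rw [mul_one, mul_inv_cancel]; exact one_mem _
      | mul x y _ _ hx hy =>
        have e : t * (x * y) * t⁻¹ = t * x * t⁻¹ * (t * y * t⁻¹) := by group
        rw [e]
        exact mul_mem hx hy
      | inv x _ hx =>
        have e : t * x⁻¹ * t⁻¹ = (t * x * t⁻¹)⁻¹ := by group
        rw [e]
        exact inv_mem hx
    intro t ht
    rw [mem_normalizer_iff]
    intro x
    refine ⟨key t ht x, fun hx => ?_⟩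
    have h1 := key _ (inv_mem ht) _ hx
    have e : t⁻¹ * (t * x * t⁻¹) * t⁻¹⁻¹ = x := by group
    rwa [e] at h1
  have hX1 : X = ⊥ := by
    by_contra hne
    have h1 := (irr X (hXc.trans hdV) hPX hne).trans hXc
    apply w.mov hP hact
    intro s hs
    rw [mem_centralizer_iff]
    exact fun l hl => NOne.Flat.Hyp.F_comm (w.zl_le_F hP' hpas (h1 hl)) (NOne.Flat.Hyp.W_le_X hs)
  refine le_trans (le_inf hdV fun x hx => ?_) cvq
  rw [mem_centralizer_iff]
  intro q hq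
  have h1 : c x q ∈ X := subset_closure ⟨x, le_sup_left (b := L) hx, q, hq, rfl⟩
  rw [hX1, mem_bot] at h1
  exact (NOThreeL.Low.Key.comm_of_c h1).symm

end WFr

end Cfsg.Agent.Omega.NO3S.Pas
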