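import Cfsg.Agent.Omega.NOThreeL.Low.PmSym
import Cfsg.Agent.Omega.NOThreeL.NF.Rp
import Cfsg.Agent.Omega.NO3S.Pas.KTwo

/-!
# GammaFF: a generic element of an active minimal parabolic

`P ∈ P*(S)`, `C_Z(P) = 1`, `W ≤ S` a minimal offender on `V_P` (one root group of one block, or one transposition).

* `Gnr S P W p` : `p ∈ P`, `P = ⟨S, W^(p⁻¹)⟩`, `R₀^p ∩ [V_P, W] = 1` with `R₀ = C_{V_P}(⟨W^S⟩)`;
* `exists_gnr` : such a `p` exists (natural: the Weyl element of the block of `W`; symmetric: `(b 0)` for `W = (a b)`).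
-/

set_option autoImplicit false

namespace Cfsg.Agent.Omega.NO3S.Pas

open Subgroup Cfsg Cfsg.Agent.ZN Cfsg.Agent.Omega.MinPar
open Cfsg.Agent.ZN.ChoiceBase (cj mem_cj)
open Cfsg.Agent.Omega.FFThm (NatKM SymKM SymK)
open Cfsg.Agent.Omega.FrameFF (cv)
open Cfsg.Agent.Omega.NOThreeL.NF (MinOffM)
open scoped Pointwise

universe u

variable {G : Type u} [Group G]

/-- **A generic element**: `P = ⟨S, W^(p⁻¹)⟩`, `R₀^p ∩ [V_P, W] = 1`. -/
structure Gnr (S P W : Subgroup G) (p : G) : Prop where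
  mem : p ∈ P
  gen : P ≤ S ⊔ MulAut.conj p⁻¹ • W
  dis : ∀ x ∈ zl S P, (∀ s ∈ S, MulAut.conj s • W ≤ centralizer ({x} : Set G)) → p * x * p⁻¹ ∈ ⁅zl S P, W⁆ → x = 1

section nat

open NOThreeL.NF.NatR
open Cfsg.Agent.Omega.NatPair (ap ap_mul ap_one ap_inv_ap ap_zero' ap_one' ext2)
open Cfsg.Agent.Lib.SL2Mat

theorem gnr_nat [Finite G] {S P W : Subgroup G} (hP : IsParS S P) {F : Type} [Field F] [CharP F 2] {k : ℕ}
    (M : NatKM F S P (zl S P) ⊥ k) (hW : MinOffM (zl S P) S W) : ∃ p, Gnr S P W p := by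
  classical
  have hPW : P ≤ normalizer (zl S P : Set G) := le_normalizer_zl S P
  have hSP := hP.le
  obtain ⟨i, hr⟩ := Rt.of (M := M) hPW hSP hW
  obtain ⟨g, hg, hgac⟩ := lift_ac (M := M) (Pi.mulSingle i (wm 1 one_ne_zero))
  have hWP : W ≤ P := hW.le.trans hSP
  refine ⟨g⁻¹, inv_mem hg, ?_, ?_⟩
  · rw [inv_inv]
    obtain ⟨a, ha, hac⟩ := hr.ex (-1)
    have haP := hWP ha
    have h1 := Ac.mul hPW (inv_mem hg) (Ac.mul hPW haP hgac hac) (hgac.inv hPW hg)
    have e1 : (Pi.mulSingle i (wm 1 one_ne_zero) : Fin k → Matrix.SpecialLinearGroup (Fin 2) F) *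
        Pi.mulSingle i (up (-1)) * (Pi.mulSingle i (wm 1 one_ne_zero))⁻¹ = Pi.mulSingle i (lo 1) := by
      rw [← Pi.mulSingle_mul, ← Pi.mulSingle_inv, ← Pi.mulSingle_mul]
      congr 1
      rw [wm_up, mul_inv_cancel_right]
      congr 1
      ring
    rw [e1] at h1
    refine NOThreeL.Low.le_of_lo M hP le_sup_left (sup_le hSP ?_)
      ((le_sup_right : MulAut.conj g • W ≤ _) (NOne.Frame.conj_mem ha)) h1
    rintro _ ⟨x, hx, rfl⟩
    exact mul_mem (mul_mem hg (hWP hx)) (inv_mem hg)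
  · intro x hx hc hpx
    rw [hr.comm_eq hPW hSP] at hpx
    have h1 : ∀ j, M.e x j 1 = 0 := by
      intro j
      obtain ⟨t, ht, hrt⟩ := exists_rt (M := M) hPW hSP hW hr j
      refine hrt.zero_of_cent hx ?_
      rw [mem_centralizer_iff]
      intro y hy
      have h2 : y ∈ centralizer ({x} : Set G) := hc t ht hy
      exact mem_centralizer_singleton_iff.1 h2
    have hac' := hgac.inv hPW hg
    have h2 : ∀ j, M.e (g⁻¹ * x * g⁻¹⁻¹) j = ap ((Pi.mulSingle i (wm 1 one_ne_zero) :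
        Fin k → Matrix.SpecialLinearGroup (Fin 2) F)⁻¹ j) (M.e x j) := hac' x hx
    refine e_inj (M := M) hx (one_mem _) ?_
    rw [e_one]
    funext j
    by_cases hj : j = i
    · subst hj
      have h3 := hpx.2.1 j
      rw [h2 j] at h3
      have h4 : ap (wm (1 : F) one_ne_zero) (ap ((Pi.mulSingle j (wm 1 one_ne_zero) :
        Fin k → Matrix.SpecialLinearGroup (Fin 2) F)⁻¹ j) (M.e x j)) = M.e x j := by
        rw [Pi.inv_apply, Pi.mulSingle_eq_same, ← ap_mul, mul_inv_cancel, ap_one]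
      refine ext2 ?_ (h1 j)
      rw [← h4, ap_zero', h3, wm_00]
      simp
    · have h3 := hpx.2.2 j (by simpa using hj)
      rw [h2 j, Pi.inv_apply, Pi.mulSingle_eq_of_ne hj, inv_one, ap_one] at h3
      rw [h3]
      rfl

end nat

section sym

open Cfsg.Agent.Omega.Half (Amb)
open Cfsg.Agent.Omega.Half.SymA
open Cfsg.Agent.Omega.NOThreeL.NF.SymRP
open scoped Classical

theorem gnr_sym [Finite G] (hG : IsCharacteristicTwoType G) {S : Sylow 2 G} {P W : Subgroup G}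
    (hP : IsParS (S : Subgroup G) P) {k m : ℕ} (hm : 1 ≤ m)
    (M : SymKM (S : Subgroup G) P (zl (S : Subgroup G) P) ⊥ k m)
    (hW : MinOffM (zl (S : Subgroup G) P) (S : Subgroup G) W) : ∃ p, Gnr (S : Subgroup G) P W p := by
  have hA : Amb (S : Subgroup G) P (zl (S : Subgroup G) P) := Half.amb_of_loc hG S hP.isLoc
  obtain ⟨⟨a, b, h⟩, -⟩ := exists_ad M hA hm hW
  have hWP : W ≤ P := hW.le.trans hP.le
  have ha := h.sw.nz hA hm
  have hb := (h.sw.symm).nz hA hm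
  obtain ⟨g, hg, hgac⟩ := exists_swap (M := M.toSymK) (p := b) (q := (b.1, 0)) rfl
  have hab : a.1 = b.1 := h.sw.2.1
  have ha0 : a ≠ (b.1, 0) := fun h1 => ha (by rw [h1])
  have e1 : Equiv.swap b ((b.1, 0) : Pt k m) a = a := Equiv.swap_apply_of_ne_of_ne h.sw.1 ha0
  refine ⟨g⁻¹, inv_mem hg, ?_, ?_⟩
  · rw [inv_inv]
    obtain ⟨w, hw, hwac⟩ := h.ex
    have h1 := hgac.conj hA hg hwac (hWP hw)
    have h2 : Equiv.swap b ((b.1, 0) : Pt k m) * Equiv.swap a b * (Equiv.swap b ((b.1, 0) : Pt k m))⁻¹ =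
        Equiv.swap (Equiv.swap b ((b.1, 0) : Pt k m) a) (Equiv.swap b ((b.1, 0) : Pt k m) b) :=
      (Equiv.swap_apply_apply _ _ _).symm
    rw [h2, e1, Equiv.swap_apply_left, Equiv.swap_comm, ← hab] at h1
    refine NOThreeL.Low.le_of_swap M.toSymK hA hm (fun p q hp hq => trans_pts S hA hm hp hq) hP le_sup_left
      (sup_le hP.le ?_) ((le_sup_right : MulAut.conj g • W ≤ _) (NOne.Frame.conj_mem hw)) ha h1
    rintro _ ⟨x, hx, rfl⟩
    exact mul_mem (mul_mem hg (hWP hx)) (inv_mem hg)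
  · intro x hx hc hpx
    obtain ⟨r, hr⟩ := exists_isC (M := M.toSymK) hab
    have hrr : r * r = 1 := by rw [← pow_two]; exact hA.sq r hr.1
    rw [h.comm_eq hA hm hr, NOThreeL.FourLine.mem_zpowers_iff hrr] at hpx
    rw [inv_inv] at hpx
    rcases hpx with hpx | hpx
    · have e : x = g * (g⁻¹ * x * g) * g⁻¹ := by group
      rw [e, hpx, mul_one, mul_inv_cancel]
    · exfalso
      obtain ⟨w, hw, hwac⟩ := h.ex
      have h2 : w ∈ centralizer ({x} : Set G) := hc 1 (one_mem _) (by rwa [map_one, one_smul])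
      have h3 : w * x = x * w := mem_centralizer_singleton_iff.1 h2
      have h4 : E M.toSymK x a = E M.toSymK x b := eq_of_comm hwac hx (by rw [h3, mul_inv_cancel_right])
      have h5 := hgac (g⁻¹ * x * g) (by rw [hpx]; exact hr.1)
      have e : g * (g⁻¹ * x * g) * g⁻¹ = x := by group
      rw [e, hpx] at h5
      have h6 := h5 a
      rw [e1, hr.left h.sw.1] at h6
      have h7 := h5 ((b.1, 0) : Pt k m)
      rw [Equiv.swap_apply_right, hr.zero ha0.symm (fun h8 => hb (by rw [← h8]))] at h7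
      rw [h6, h7] at h4
      exact one_ne_zero h4

end sym

/-- **A generic element exists.** -/
theorem exists_gnr [Finite G] (hFF : FFThm.StmtM.{u}) (hG : IsCharacteristicTwoType G) {S : Sylow 2 G}
    {P W : Subgroup G} (hP : IsParS (S : Subgroup G) P) (hD : cv (S : Subgroup G) P = ⊥)
    (hW : MinOffM (zl (S : Subgroup G) P) (S : Subgroup G) W) : ∃ p, Gnr (S : Subgroup G) P W p := by
  obtain ⟨-, hcon⟩ := hFF G (S : Subgroup G) P (MinSimple.EmptyTI.syl_of_le hP.le)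
    hP.toIsMinPar (hP.isLoc.char2 S hG) ⟨W, hW.le.trans hP.le, hW.off⟩
  rcases hcon with ⟨F, _, _, _, k, -, ⟨M⟩⟩ | ⟨k, m, -, hm, ⟨M⟩⟩
  · rw [hD] at M
    exact gnr_nat hP M hW
  · rw [hD] at M
    exact gnr_sym hG hP (by omega) M hW

end Cfsg.Agent.Omega.NO3S.Pas
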