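import Cfsg.Agent.Omega.NO3S.Pas.Gnr
import Cfsg.Agent.Omega.NO3S.Act.Dich
import Cfsg.Agent.Omega.NO3S.ActT.AA

/-!
# GammaFF: ACT and PAS for a front with any `n ≥ 1`

`w : WFr S M V F`, `f : Fr S M V F n`, `1 ≤ n`, `hk : Key V F (BL M S V F n)`, `P` active with `C_Z(P) = 1`:

* `WFr.passive` **(THEOREM PAS)** : `V_P' ≤ V_P` for passive `P'`, radicals allowed;
* `WFr.active` **(THEOREM ACT)** : `V_P' = V_P` for active `P'` with `C_Z(P') = 1`.
-/

set_option autoImplicit false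
set_option linter.unusedSectionVars false

namespace Cfsg.Agent.Omega.NO3S.Pas

open Subgroup Cfsg Cfsg.Agent.ZN Cfsg.Agent.Omega.MinPar Cfsg.Agent.Omega.Frame Cfsg.Agent.Omega.FrameNOFF
open Cfsg.Agent.Omega.NOne.Flat (EE NN BadX Cos card_mul_relIndex' conj_eq_of_norm conj_centralizer WW_conj
  EE_conj conj_eq_of_cent)
open Cfsg.Agent.Omega.NOne.NearFF (c c_def)
open Cfsg.Agent.Omega.NoFF.Basic (conj_conj mem_conj conj_le_iff conj_le_centralizer comm_symm Gal)
open Cfsg.Agent.Omega.NOThreeL.Low (Tp Blk Fr Ch BB)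
open Cfsg.Agent.Omega.NOThreeL.Low.Key (BH)
open Cfsg.Agent.Omega.FrameFF (cv)
open Cfsg.Agent.Omega.FFThm (ElemM OffM NoOverM ConclM relIndex_le_iff)
open Cfsg.Agent.ZN.ChoiceSit (Syl)
open scoped Pointwise

universe u

variable {G : Type u} [Group G] [Finite G] {S : Sylow 2 G} {P V F B : Subgroup G}

namespace WFr

variable {M : Subgroup G} {n : ℕ} (w : WFr S M V F)
include w

/-- a line of a chamber which contains `W` is in `B` -/
theorem line_le_BN (n : ℕ) {g : G} (hg : g ∈ M) (hW : NOne.Flat.WW V F ≤ MulAut.conj g • (S : Subgroup G)) {R : Subgroup G}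
    (hR : IsParS (S : Subgroup G) R) :
    MulAut.conj g • zl (S : Subgroup G) R ≤ BL M (S : Subgroup G) V F n :=
  (Fr.le_BB' (Fr.mem_Gd (Nat.zero_le n) (w.ch hg hW) hR (w.good hg hW hR))).trans le_sup_left

theorem zl_le_BN (n : ℕ) {R : Subgroup G} (hR : IsParS (S : Subgroup G) R) :
    zl (S : Subgroup G) R ≤ BL M (S : Subgroup G) V F n := by
  have h1 := w.line_le_BN n (one_mem M) (by rw [map_one, one_smul]; exact w.WS) hR
  rwa [map_one, one_smul] at h1

theorem L_le_IN (n : ℕ) (hP : IsParS (S : Subgroup G) P) : zl (S : Subgroup G) P ≤ V ⊓ BL M (S : Subgroup G) V F n :=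
  le_inf (w.zl_le_V hP) (w.zl_le_BN n hP)

/-- **570's `Pre`** for active `P`, passive `P'`. -/
theorem preN (f : Fr S M V F n) {P' : Subgroup G} (hP : IsParS (S : Subgroup G) P) (hP' : IsParS (S : Subgroup G) P')
    (hact : ¬ NOne.Flat.WW V F ≤ o2 P) (hpas : NOne.Flat.WW V F ≤ o2 P') :
    Pre (S : Subgroup G) V F (BL M (S : Subgroup G) V F n) P P' (zl (S : Subgroup G) P)
      (zl (S : Subgroup G) P') where
  toBH := bh f
  SP := hP.le
  SP' := hP'.le
  PV := w.PV hP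
  PV' := w.PV hP'
  PL := MinSimple.VModule.le_normalizer_zl _ _
  Pc := MinSimple.VModule.le_normalizer_zl _ _
  PQ := w.PQ hP
  WS := w.WS
  WS' := fun g hg => by
    have h1 := conj_le_iff (g := g).2 hpas
    rw [conj_eq_of_norm (MinSimple.VModule.le_normalizer_o2 P' hg)] at h1
    exact h1.trans (hP'.isLoc.o2_le S)
  LV := w.zl_le_V hP
  LB := w.zl_le_BN n hP
  mov := w.mov hP hact
  cF := w.zl_le_F hP' hpas
  line := fun y hy hW => w.line_le_BN n (sup_le (w.PM P hP) (w.PM P' hP') hy) hW hP'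

/-- `I ≰ F` if there is an active type. -/
theorem not_I_leN (n : ℕ) (hP : IsParS (S : Subgroup G) P) (hact : ¬ NOne.Flat.WW V F ≤ o2 P) :
    ¬ V ⊓ BL M (S : Subgroup G) V F n ≤ F := by
  intro h1
  apply w.mov hP hact
  intro s hs
  rw [mem_centralizer_iff]
  exact fun l hl => NOne.Flat.Hyp.F_comm (h1 ⟨w.zl_le_V hP hl, w.zl_le_BN n hP hl⟩) (NOne.Flat.Hyp.W_le_X hs)

/-- **(K2)** `V = V_P'^p E` -/
theorem hspN (f : Fr S M V F n) (hn : 1 ≤ n) (hFF : FFThm.StmtM.{u}) {P' : Subgroup G} (hP : IsParS (S : Subgroup G) P)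
    (hP' : IsParS (S : Subgroup G) P') (hact : ¬ NOne.Flat.WW V F ≤ o2 P)
    (hk : Key V F (BL M (S : Subgroup G) V F n)) {p : G} (hp : p ∈ P)
    (hρ : MulAut.conj p • zl (S : Subgroup G) P' ⊓ ⁅zl (S : Subgroup G) P, NOne.Flat.WW V F⁆ = ⊥)
    (hUE : ¬ MulAut.conj p • zl (S : Subgroup G) P' ≤ EE V F) :
    ∀ v ∈ V, ∃ x ∈ MulAut.conj p • zl (S : Subgroup G) P', ∃ e ∈ EE V F, v = x * e := by
  have hb := bh f
  have hI := w.not_I_leN n hP hact
  have hBS := BL_le_conj f hn (w.ch_par hP hp)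
  have hdV := f.line_le_V (w.PM P hP hp) hP'
  have hBd : BL M (S : Subgroup G) V F n ≤
      normalizer ((MulAut.conj p • zl (S : Subgroup G) P' : Subgroup G) : Set G) := by
    refine hBS.trans ?_
    intro x hx
    rw [mem_conj] at hx
    have h1 := MinSimple.VModule.le_normalizer_zl (S : Subgroup G) P' (hP'.le hx)
    rw [mem_normalizer_iff] at h1 ⊢
    intro y
    rw [mem_conj, mem_conj]
    have e : p⁻¹ * (x * y * x⁻¹) * p = p⁻¹ * x * p * (p⁻¹ * y * p) * (p⁻¹ * x * p)⁻¹ := by group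
    rw [e]
    exact h1 _
  have h3 := two hb hdV hUE hBd hI (fun e he b hb' => hk.mem_EB hb (w.L_le_IN n hP) (w.mov hP hact) he hb') hρ
    (noOver_conj hFF w.hc hP' hBS)
  intro v hv
  have hcos : Cos id (MulAut.conj p • zl (S : Subgroup G) P') (EE V F) V (EE V F) :=
    ⟨fun u hu => hdV hu, fun _ _ _ _ => Iff.rfl⟩
  obtain ⟨x, hx, hxv⟩ := hcos.surj ((hb.relIndex_V_le hI).trans h3) hv
  exact ⟨x, hx, x⁻¹ * v, hxv, by group⟩

/-- **THEOREM PAS** (#20445 (P1), radicals of `P'` allowed): `V_P'^p ≤ E` if `V_P'^p ∩ ρ = 1`. -/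
theorem pasN (f : Fr S M V F n) (hn : 1 ≤ n) (hFF : FFThm.StmtM.{u}) {P' : Subgroup G} (hP : IsParS (S : Subgroup G) P)
    (hP' : IsParS (S : Subgroup G) P') (hact : ¬ NOne.Flat.WW V F ≤ o2 P) (hpas : NOne.Flat.WW V F ≤ o2 P')
    (hk : Key V F (BL M (S : Subgroup G) V F n)) {rho : Subgroup G} (hrho : rho ≤ zl (S : Subgroup G) P)
    (dich : ∀ k ∈ P', MulAut.conj k • NOne.Flat.WW V F ≤ centralizer (zl (S : Subgroup G) P : Set G) ∨
      ∃ s ∈ (S : Subgroup G), MulAut.conj k • rho = MulAut.conj s • rho)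
    (hZ : zc (S : Subgroup G) ≤ ⨆ s : (S : Subgroup G), MulAut.conj (s : G) • rho)
    {p : G} (hp : p ∈ P)
    (hρ : MulAut.conj p • zl (S : Subgroup G) P' ⊓ ⁅zl (S : Subgroup G) P, NOne.Flat.WW V F⁆ = ⊥) :
    MulAut.conj p • zl (S : Subgroup G) P' ≤ EE V F :=
  (w.preN f hP hP' hact hpas).pas (rho := rho) dich rfl hrho (fun _ hN hn ha => w.min hP' hN hn ha) hZ
    (fun _ hX hZX => w.zl_le_of hX hZX) hp (w.hspN f hn hFF hP hP' hact hk hp hρ)

/-- `[r, W] ≤ L` for `r ∈ I` -/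
theorem comm_IN (f : Fr S M V F n) (hP : IsParS (S : Subgroup G) P) (hact : ¬ NOne.Flat.WW V F ≤ o2 P)
    (hk : Key V F (BL M (S : Subgroup G) V F n)) {r s : G} (hr : r ∈ V ⊓ BL M (S : Subgroup G) V F n)
    (hs : s ∈ NOne.Flat.WW V F) : c r s ∈ zl (S : Subgroup G) P := by
  have h1 := hk.mem (bh f) (w.L_le_IN n hP) (w.mov hP hact) hr hs
  refine (commutator_le.2 fun l hl t ht => ?_ : ⁅zl (S : Subgroup G) P, NOne.Flat.WW V F⁆ ≤ zl (S : Subgroup G) P) h1
  rw [commutatorElement_def, ← c_def]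
  exact NOThreeL.Low.Key.c_mem_left hl (MinSimple.VModule.le_normalizer_zl _ _ (hP.le (w.WS ht)))

/-- `V_P'^p ≤ E` for one `p ∈ P` with `P = ⟨S, W^(p⁻¹)⟩` ⟹ `V_P' ≤ V_P`. -/
theorem le_of_goodN (f : Fr S M V F n) (hn : 1 ≤ n) (hP : IsParS (S : Subgroup G) P) {P' : Subgroup G}
    (hP' : IsParS (S : Subgroup G) P') (hact : ¬ NOne.Flat.WW V F ≤ o2 P) (hpas : NOne.Flat.WW V F ≤ o2 P')
    (hk : Key V F (BL M (S : Subgroup G) V F n))
    (irr : ∀ X : Subgroup G, X ≤ V → P ≤ normalizer (X : Set G) → X ≠ ⊥ → zl (S : Subgroup G) P ≤ X)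
    (cvq : V ⊓ centralizer (o2 P : Set G) ≤ zl (S : Subgroup G) P) {p : G} (hp : p ∈ P)
    (hgen : P ≤ (S : Subgroup G) ⊔ MulAut.conj p⁻¹ • NOne.Flat.WW V F)
    (hgood : MulAut.conj p • zl (S : Subgroup G) P' ≤ EE V F) :
    zl (S : Subgroup G) P' ≤ zl (S : Subgroup G) P := by
  set L : Subgroup G := zl (S : Subgroup G) P with hL
  set d : Subgroup G := zl (S : Subgroup G) P' with hd
  have hLV : L ≤ V := w.zl_le_V hP
  have hdV : d ≤ V := w.zl_le_V hP'
  have hPL : P ≤ normalizer (L : Set G) := MinSimple.VModule.le_normalizer_zl _ _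
  have hPd : P' ≤ normalizer (d : Set G) := MinSimple.VModule.le_normalizer_zl _ _
  have hdL : d ≤ normalizer (L : Set G) := by
    refine le_trans ?_ (centralizer_le_normalizer _)
    exact hdV.trans (w.hyp.comm.trans (centralizer_le hLV))
  have hLd : L ≤ normalizer (d : Set G) := by
    refine le_trans ?_ (centralizer_le_normalizer _)
    exact hLV.trans (w.hyp.comm.trans (centralizer_le hdV))
  -- `A = V_P' V_P`
  set A : Subgroup G := d ⊔ L with hA
  have hAV : A ≤ V := sup_le hdV hLV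
  have hgI : MulAut.conj p • d ≤ BL M (S : Subgroup G) V F n :=
    (Fr.le_BB' (Fr.mem_Gd hn (w.ch_par hP hp) hP' hgood)).trans le_sup_left
  have hAI : MulAut.conj p • A ≤ V ⊓ BL M (S : Subgroup G) V F n := by
    refine le_inf ?_ ?_
    · have h1 := conj_le_iff (g := p).2 hAV
      rwa [conj_eq_of_norm (w.PV hP hp)] at h1
    · rw [hA, Subgroup.smul_sup]
      refine sup_le hgI ?_
      rw [conj_eq_of_norm (hPL hp)]
      exact w.zl_le_BN n hP
  -- `[A, W^(p⁻¹)] ≤ L`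
  have hAW : ∀ x ∈ A, ∀ s ∈ MulAut.conj p⁻¹ • NOne.Flat.WW V F, c x s ∈ L := by
    intro x hx s hs
    rw [mem_conj, inv_inv] at hs
    have hx' : p * x * p⁻¹ ∈ V ⊓ BL M (S : Subgroup G) V F n := hAI (NOne.Frame.conj_mem hx)
    have h1 := w.comm_IN f hP hact hk hx' hs
    have h2 := (mem_normalizer_iff.1 (hPL (inv_mem hp)) _).1 h1
    have e : p⁻¹ * c (p * x * p⁻¹) (p * s * p⁻¹) * p⁻¹⁻¹ = c x s := by rw [c_def, c_def]; group
    rwa [e] at h2
  have hSA : (S : Subgroup G) ≤ normalizer (A : Set G) := by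
    intro s hs
    have h1 : MulAut.conj s • A = A := by
      rw [hA, Subgroup.smul_sup, conj_eq_of_norm (hPd (hP'.le hs)), conj_eq_of_norm (hPL (hP.le hs))]
    rw [mem_normalizer_iff]
    intro y
    constructor
    · intro hy
      rw [← h1]
      exact NOne.Frame.conj_mem hy
    · intro hy
      rw [← h1, mem_conj] at hy
      have e : s⁻¹ * (s * y * s⁻¹) * s = y := by group
      rwa [e] at hy
  have hWA : MulAut.conj p⁻¹ • NOne.Flat.WW V F ≤ normalizer (A : Set G) := by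
    have key : ∀ s ∈ MulAut.conj p⁻¹ • NOne.Flat.WW V F, ∀ x ∈ A, s * x * s⁻¹ ∈ A := by
      intro s hs x hx
      have e : s * x * s⁻¹ = x * c x⁻¹ s := by rw [c_def]; group
      rw [e]
      exact mul_mem hx (le_sup_right (a := d) (hAW x⁻¹ (inv_mem hx) s hs))
    intro s hs
    rw [mem_normalizer_iff]
    intro y
    refine ⟨key s hs y, fun hy => ?_⟩
    have h1 := key s⁻¹ (inv_mem hs) _ hy
    have e : s⁻¹ * (s * y * s⁻¹) * s⁻¹⁻¹ = y := by group
    rwa [e] at h1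
  have hPA : P ≤ normalizer (A : Set G) := hgen.trans (sup_le hSA hWA)
  -- `X = [A, Q]`
  set X : Subgroup G := closure {y | ∃ u ∈ A, ∃ q ∈ o2 P, y = c u q} with hX
  have hQS : o2 P ≤ (S : Subgroup G) := hP.isLoc.o2_le S
  have hQL : o2 P ≤ centralizer (L : Set G) := by
    rw [← hP.inf_centralizer S w.hc]
    exact inf_le_right
  have hXc : X ≤ d := by
    rw [hX, closure_le]
    rintro y ⟨u, hu, q, hq, rfl⟩
    obtain ⟨l, hl, x, hx, rfl⟩ := mem_sup_of_norm hdL (by rw [sup_comm]; exact hu)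
    have hql : q * l⁻¹ * q⁻¹ = l⁻¹ := by
      have h1 := mem_centralizer_iff.1 (hQL hq) l⁻¹ (inv_mem hl)
      rw [← h1, mul_inv_cancel_right]
    have h2 : q * x⁻¹ * q⁻¹ ∈ d := (mem_normalizer_iff.1 (hPd (hP'.le (hQS hq))) _).1 (inv_mem hx)
    have h3 : x * (q * x⁻¹ * q⁻¹) ∈ d := mul_mem hx h2
    have e1 : c (l * x) q = l * (x * (q * x⁻¹ * q⁻¹)) * (q * l⁻¹ * q⁻¹) := by rw [c_def]; group
    rw [SetLike.mem_coe, e1, hql, w.hyp.V_comm (hLV hl) (hdV h3), mul_inv_cancel_right]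
    exact h3
  have hPX : P ≤ normalizer (X : Set G) := by
    have key : ∀ t ∈ P, ∀ x ∈ X, t * x * t⁻¹ ∈ X := by
      intro t ht x hx
      induction hx using closure_induction with
      | mem x hx =>
        obtain ⟨u, hu, q, hq, rfl⟩ := hx
        refine subset_closure ⟨t * u * t⁻¹, (mem_normalizer_iff.1 (hPA ht) _).1 hu, t * q * t⁻¹,
          (mem_normalizer_iff.1 (MinSimple.VModule.le_normalizer_o2 P ht) _).1 hq, ?_⟩
        rw [c_def, c_def]
        group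
      | one => rw [mul_one, mul_inv_cancel]; exact one_mem _
      | mul x y _ _ hx hy =>
        have e : t * (x * y) * t⁻¹ = t * x * t⁻¹ * (t * y * t⁻¹) := by group
        rw [e]
        exact mul_mem hx hy
      | inv x _ hx =>
        have e : t * x⁻¹ * t⁻¹ = (t * x * t⁻¹)⁻¹ := by group
        rw [e]
        exact inv_mem hx
    intro t ht
    rw [mem_normalizer_iff]
    intro x
    refine ⟨key t ht x, fun hx => ?_⟩
    have h1 := key _ (inv_mem ht) _ hx
    have e : t⁻¹ * (t * x * t⁻¹) * t⁻¹⁻¹ = x := by group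
    rwa [e] at h1
  have hX1 : X = ⊥ := by
    by_contra hne
    have h1 := (irr X (hXc.trans hdV) hPX hne).trans hXc
    apply w.mov hP hact
    intro s hs
    rw [mem_centralizer_iff]
    exact fun l hl => NOne.Flat.Hyp.F_comm (w.zl_le_F hP' hpas (h1 hl)) (NOne.Flat.Hyp.W_le_X hs)
  refine le_trans (le_inf hdV fun x hx => ?_) cvq
  rw [mem_centralizer_iff]
  intro q hq
  have h1 : c x q ∈ X := subset_closure ⟨x, le_sup_left (b := L) hx, q, hq, rfl⟩
  rw [hX1, mem_bot] at h1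
  exact (NOThreeL.Low.Key.comm_of_c h1).symm

/-- the root property -/
theorem rootN (f : Fr S M V F n) (hP : IsParS (S : Subgroup G) P) (hact : ¬ NOne.Flat.WW V F ≤ o2 P)
    (hk : Key V F (BL M (S : Subgroup G) V F n)) : Root V F (V ⊓ BL M (S : Subgroup G) V F n) :=
  Root.of_key hk ((bh f).exists_not_mem_NN (w.not_I_leN n hP hact))

/-- `W` is a minimal offender on `V_P` -/
theorem minN (hFF : FFThm.StmtM.{u}) (f : Fr S M V F n) (hP : IsParS (S : Subgroup G) P)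
    (hcv : cv (S : Subgroup G) P = ⊥) (hact : ¬ NOne.Flat.WW V F ≤ o2 P)
    (hk : Key V F (BL M (S : Subgroup G) V F n)) :
    NOThreeL.NF.MinOffM (zl (S : Subgroup G) P) (S : Subgroup G) (NOne.Flat.WW V F) :=
  minOff_of_root w.hc hP hcv ((w.act hP hcv hact).ff hFF).2 w.hyp (w.rootN f hP hact hk) (bh f).I_le_E
    (w.L_le_IN n hP) w.WS (w.mov hP hact)

/-- `V_P^k ≤ B` for `k ∈ P'` passive -/
theorem conj_le_BN (n : ℕ) (hP : IsParS (S : Subgroup G) P) {P' : Subgroup G} (hP' : IsParS (S : Subgroup G) P')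
    (hpas : NOne.Flat.WW V F ≤ o2 P') {k : G} (hk : k ∈ P') :
    MulAut.conj k • zl (S : Subgroup G) P ≤ BL M (S : Subgroup G) V F n := by
  refine w.line_le_BN n (w.PM P' hP' hk) ?_ hP
  have h1 := conj_le_iff (g := k).2 (hP'.isLoc.o2_le S)
  rw [conj_eq_of_norm (MinSimple.VModule.le_normalizer_o2 P' hk)] at h1
  exact hpas.trans h1

/-- **THEOREM PAS**: `V_P' ≤ V_P` for a passive type `P'`, radicals allowed. -/
theorem passive (hFF : FFThm.StmtM.{u}) (f : Fr S M V F n) (hn : 1 ≤ n) (hP : IsParS (S : Subgroup G) P)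
    (hcv : cv (S : Subgroup G) P = ⊥) (hact : ¬ NOne.Flat.WW V F ≤ o2 P)
    (hk : Key V F (BL M (S : Subgroup G) V F n)) {P' : Subgroup G} (hP' : IsParS (S : Subgroup G) P')
    (hpas : NOne.Flat.WW V F ≤ o2 P') : zl (S : Subgroup G) P' ≤ zl (S : Subgroup G) P := by
  have a := w.act hP hcv hact
  have hr := w.rootN f hP hact hk
  have hIE := (bh f).I_le_E
  have hpre := w.preN f hP hP' hact hpas
  have hPL : P ≤ normalizer (zl (S : Subgroup G) P : Set G) := MinSimple.VModule.le_normalizer_zl _ _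
  obtain ⟨p, hg⟩ := exists_gnr hFF w.hc hP hcv (w.minN hFF f hP hcv hact hk)
  by_cases hgood : MulAut.conj p • zl (S : Subgroup G) P' ≤ EE V F
  · exact w.le_of_goodN f hn hP hP' hact hpas hk (irr a hFF) (a.cent_VQ hFF).le hg.mem hg.gen hgood
  · refine absurd (w.pasN f hn hFF hP hP' hact hpas hk (rho_le a)
      (dich' a hFF (w.PV hP') hpre.WS' hIE hr fun g hg => w.conj_le_BN n hP hP' hpas hg)
      (zc_le a hFF hIE hr (w.L_le_IN n hP)) hg.mem ?_) hgood
    rw [eq_bot_iff]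
    intro x hx
    obtain ⟨hx1, hx2⟩ := mem_inf.1 hx
    rw [mem_conj] at hx1
    have e : p * (p⁻¹ * x * p) * p⁻¹ = x := by group
    have hxL : x ∈ zl (S : Subgroup G) P := rho_le a hx2
    have h1 : p⁻¹ * x * p ∈ zl (S : Subgroup G) P := by
      have h2 := (mem_normalizer_iff.1 (hPL (inv_mem hg.mem)) x).1 hxL
      rwa [inv_inv] at h2
    have h3 := hg.dis _ h1 (fun s hs => ?_) (by rw [e]; exact hx2)
    · rw [mem_bot, ← e, h3, mul_one, mul_inv_cancel]
    · refine (hpre.cent_conjW hs).trans (centralizer_le ?_)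
      rintro _ rfl
      exact hx1

/-- **THEOREM ACT**: `V_P' = V_P` for an active type `P'` with `C_Z(P') = 1`. -/
theorem active (hFF : FFThm.StmtM.{u}) (f : Fr S M V F n) (hn : 1 ≤ n)
    (hkey : F.relIndex (V ⊓ BL M (S : Subgroup G) V F n) ≤ (EE V F).relIndex V)
    (hP : IsParS (S : Subgroup G) P) (hcv : cv (S : Subgroup G) P = ⊥) (hact : ¬ NOne.Flat.WW V F ≤ o2 P)
    {P' : Subgroup G} (hP' : IsParS (S : Subgroup G) P') (hcv' : cv (S : Subgroup G) P' = ⊥)
    (hact' : ¬ NOne.Flat.WW V F ≤ o2 P') : zl (S : Subgroup G) P' = zl (S : Subgroup G) P :=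
  ActT.AA.eq (S := S) (P₀ := P) (P := P') (V := V) (F := F) (B := BL M (S : Subgroup G) V F n)
    { a₀ := w.act hP hcv hact
      a := w.act hP' hcv' hact'
      bh := bh f
      LB := w.zl_le_BN n hP
      cB := w.zl_le_BN n hP'
      hk := key_of_le (bh f) hkey
      good₀ := fun _ hg hE => (Fr.le_BB' (Fr.mem_Gd hn (w.ch_par hP hg) hP' hE)).trans le_sup_left
      good := fun _ hg hE => (Fr.le_BB' (Fr.mem_Gd hn (w.ch_par hP' hg) hP hE)).trans le_sup_left } hFF

end WFr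

end Cfsg.Agent.Omega.NO3S.Pas
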