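import Cfsg.Agent.Omega.NO3S.Pas.PasN

/-!
# GammaFF, ACT (0): modules with radical

`U = V_R`, `D = C_U(O²(R))` arbitrary (`U` split over `D` or not), `A ≤ S` an offender on `U` which centralises `D`,
with `[r, A] = Π` (as sets) for all `r ∈ U - C(A)` (`RA S D U A Π`).

* `KD P D U` : the elements of `P` which centralise `D` and `U / D`; `ker` : `S ∩ KD ≤ C(U)`;
* natural^k : `exists_block`, `Ro.supp` (`Π ∩ D = 1`), `Ro.le`, `inf_eq_bot_nat` : `⟨Π^S⟩ ∩ D = 1`;
* `S_n^k` : `exists_tr`, `Tr.supp`, `Tr.le`, `Tr.uniq`, `inf_eq_bot_sym` : `⟨Π^S⟩ ∩ D = 1`;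
* `WFr.act_cv` **(ACT (0))** : if one active type has `C_Z(P) = 1`, then all have.
-/

set_option autoImplicit false
set_option linter.unusedSectionVars false

namespace Cfsg.Agent.Omega.NO3S.Pas.AZ

open Subgroup Cfsg Cfsg.Agent.ZN Cfsg.Agent.Omega.MinPar
open Cfsg.Agent.Omega.NoFF.Basic (conj_conj mem_conj conj_le_iff comm_symm)
open Cfsg.Agent.Omega.FFThm (ElemM OffM NatKM NatK SymKM SymK ActsSL ActsSym)
open Cfsg.Agent.Omega.FrameFF (cv)
open Cfsg.Agent.MinSimple.VModule (oddGen oddGen_def mem_oddGen oddGen_le oddGen_le_of_sup le_normalizer_oddGen)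
open scoped Pointwise

universe u

variable {G : Type u} [Group G]

/-! ### The kernel -/

/-- the elements of `P` which centralise `D` and `U / D` -/
def KD (P D U : Subgroup G) : Subgroup G where
  carrier := {g | g ∈ P ∧ (∀ d ∈ D, g * d = d * g) ∧ ∀ v ∈ U, g * v * g⁻¹ * v⁻¹ ∈ D}
  one_mem' := ⟨one_mem _, fun d _ => by rw [one_mul, mul_one], fun v _ => by
    rw [one_mul, inv_one, mul_one, mul_inv_cancel]; exact one_mem _⟩
  mul_mem' := by
    rintro g h ⟨hg, hg1, hg2⟩ ⟨hh, hh1, hh2⟩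
    refine ⟨mul_mem hg hh, fun d hd => by rw [mul_assoc, hh1 d hd, ← mul_assoc, hg1 d hd, mul_assoc], fun v hv => ?_⟩
    have h1 := hh2 v hv
    have h2 : g * (h * v * h⁻¹ * v⁻¹) * g⁻¹ = h * v * h⁻¹ * v⁻¹ := by rw [hg1 _ h1, mul_inv_cancel_right]
    have e : g * h * v * (g * h)⁻¹ * v⁻¹ = g * (h * v * h⁻¹ * v⁻¹) * g⁻¹ * (g * v * g⁻¹ * v⁻¹) := by group
    rw [e, h2]
    exact mul_mem h1 (hg2 v hv)
  inv_mem' := by
    rintro g ⟨hg, hg1, hg2⟩
    refine ⟨inv_mem hg, fun d hd => (show Commute g d from hg1 d hd).inv_left.eq, fun v hv => ?_⟩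
    have h1 := inv_mem (hg2 v hv)
    have h2 : g⁻¹ * (g * v * g⁻¹ * v⁻¹)⁻¹ = (g * v * g⁻¹ * v⁻¹)⁻¹ * g⁻¹ :=
      (show Commute g _ from hg1 _ h1).inv_left.eq
    have e : g⁻¹ * v * g⁻¹⁻¹ * v⁻¹ = g⁻¹ * (g * v * g⁻¹ * v⁻¹)⁻¹ * g := by group
    rw [e, h2, inv_mul_cancel_right]
    exact h1

theorem KD_le (P D U : Subgroup G) : KD P D U ≤ P := fun _ hg => hg.1

theorem norm_KD {P D U : Subgroup G} (hPU : P ≤ normalizer (U : Set G)) (hPD : P ≤ normalizer (D : Set G)) :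
    P ≤ normalizer (KD P D U : Set G) := by
  have key : ∀ t ∈ P, ∀ g ∈ KD P D U, t * g * t⁻¹ ∈ KD P D U := by
    rintro t ht g ⟨hg, hg1, hg2⟩
    refine ⟨mul_mem (mul_mem ht hg) (inv_mem ht), fun d hd => ?_, fun v hv => ?_⟩
    · have h1 : t⁻¹ * d * t ∈ D := by
        have := (mem_normalizer_iff.1 (hPD (inv_mem ht)) d).1 hd
        rwa [inv_inv] at this
      have h2 := hg1 _ h1
      have e1 : t * g * t⁻¹ * d = t * (g * (t⁻¹ * d * t)) * t⁻¹ := by group
      have e2 : d * (t * g * t⁻¹) = t * (t⁻¹ * d * t * g) * t⁻¹ := by group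
      rw [e1, e2, h2]
    · have h1 : t⁻¹ * v * t ∈ U := by
        have := (mem_normalizer_iff.1 (hPU (inv_mem ht)) v).1 hv
        rwa [inv_inv] at this
      have h2 := (mem_normalizer_iff.1 (hPD ht) _).1 (hg2 _ h1)
      have e : t * g * t⁻¹ * v * (t * g * t⁻¹)⁻¹ * v⁻¹ = t * (g * (t⁻¹ * v * t) * g⁻¹ * (t⁻¹ * v * t)⁻¹) * t⁻¹ := by
        group
      rwa [e]
  intro t ht
  rw [mem_normalizer_iff]
  intro g
  refine ⟨key t ht g, fun hg => ?_⟩
  have h1 := key _ (inv_mem ht) _ hg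
  have e : t⁻¹ * (t * g * t⁻¹) * t⁻¹⁻¹ = g := by group
  rwa [e] at h1

theorem norm_cv (S P : Subgroup G) : P ≤ normalizer (cv S P : Set G) := by
  have key : ∀ t ∈ P, ∀ g ∈ cv S P, t * g * t⁻¹ ∈ cv S P := by
    intro t ht g hg
    obtain ⟨hg, hg1⟩ := mem_inf.1 hg
    refine mem_inf.2 ⟨(mem_normalizer_iff.1 (MinSimple.VModule.le_normalizer_zl S P ht) g).1 hg, ?_⟩
    rw [mem_centralizer_iff]
    intro y hy
    have h1 : t⁻¹ * y * t ∈ oddGen P := by
      have := (mem_normalizer_iff.1 (le_normalizer_oddGen P (inv_mem ht)) y).1 hy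
      rwa [inv_inv] at this
    have h2 := mem_centralizer_iff.1 hg1 _ h1
    have e1 : y * (t * g * t⁻¹) = t * (t⁻¹ * y * t * g) * t⁻¹ := by group
    have e2 : t * g * t⁻¹ * y = t * (g * (t⁻¹ * y * t)) * t⁻¹ := by group
    rw [e1, e2, h2]
  intro t ht
  rw [mem_normalizer_iff]
  intro g
  refine ⟨key t ht g, fun hg => ?_⟩
  have h1 := key _ (inv_mem ht) _ hg
  have e : t⁻¹ * (t * g * t⁻¹) * t⁻¹⁻¹ = g := by group
  rwa [e] at h1

/-- `S ∩ KD ≤ C(U)` -/
theorem ker [Finite G] (hG : IsCharacteristicTwoType G) {S : Sylow 2 G} {P : Subgroup G}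
    (hP : IsParS (S : Subgroup G) P) (hne : ¬ zl (S : Subgroup G) P ≤ cv (S : Subgroup G) P) {g : G}
    (hg : g ∈ (S : Subgroup G)) (hg' : g ∈ KD P (cv (S : Subgroup G) P) (zl (S : Subgroup G) P)) :
    g ∈ centralizer (zl (S : Subgroup G) P : Set G) := by
  have hN := norm_KD (MinSimple.VModule.le_normalizer_zl (S : Subgroup G) P) (norm_cv (S : Subgroup G) P)
  rcases hP.toIsPar.sup_eq_or_inf_le S (KD_le _ _ _) hN with h1 | h1
  · exfalso
    apply hne
    have h2 := oddGen_le_of_sup hN h1.ge hP.le (KD_le _ _ _) S.isPGroup'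
    refine le_inf le_rfl (comm_symm ?_)
    rw [oddGen_def, closure_le]
    rintro x ⟨hx, ho⟩
    obtain ⟨-, hx1, hx2⟩ := h2 (mem_oddGen hx ho)
    rw [SetLike.mem_coe, mem_centralizer_iff]
    intro v hv
    have hd := hx2 v hv
    set d := x * v * x⁻¹ * v⁻¹ with hdd
    have key : ∀ n : ℕ, x ^ n * v * (x ^ n)⁻¹ = d ^ n * v := by
      intro n
      induction n with
      | zero => simp
      | succ n ih =>
        have h3 : x * d ^ n = d ^ n * x := ((show Commute x d from hx1 d hd).pow_right n).eq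
        have e1 : x ^ (n + 1) * v * (x ^ (n + 1))⁻¹ = x * (x ^ n * v * (x ^ n)⁻¹) * x⁻¹ := by
          rw [pow_succ']; group
        have e2 : x * (d ^ n * v) * x⁻¹ = x * d ^ n * v * x⁻¹ := by group
        have e3 : d ^ n * x * v * x⁻¹ = d ^ n * (x * v * x⁻¹ * v⁻¹) * v := by group
        rw [e1, ih, e2, h3, e3, ← hdd, pow_succ]
    have h3 := key (orderOf x)
    rw [pow_orderOf_eq_one, one_mul, inv_one, mul_one] at h3
    have h4 : d ^ orderOf x = 1 := by
      have := h3.symm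
      rwa [mul_eq_right] at this
    have h5 : d ^ 2 = 1 := MinSimple.VModule.zl_sq hP.le S.isPGroup'
      (MinSimple.Basic.not_dvd_relIndex S hP.le) (hP.isLoc.char2 S hG) d hd.1
    have h6 : d = 1 := by
      obtain ⟨m, hm⟩ := ho
      rw [hm, pow_succ, pow_mul, h5, one_pow, one_mul] at h4
      exact h4
    rw [hdd, mul_inv_eq_one] at h6
    exact (mul_inv_eq_iff_eq_mul.1 h6).symm
  · have h2 := h1 ⟨hg, hg'⟩
    rw [← hP.inf_centralizer S hG] at h2
    exact h2.2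

/-! ### The abstract end -/

/-- subgroups `R i` detected by homomorphisms `φ i` with `φ i = 0` on `D` -/
theorem iSup_inf_eq_bot {ι : Type*} [Finite ι] {D U : Subgroup G} (R : ι → Subgroup G) (hRU : ∀ i, R i ≤ U)
    (hU : ∀ u ∈ U, ∀ v ∈ U, u * v = v * u) {α : Type*} [AddGroup α] (φ : ι → G → α)
    (hφ : ∀ i, ∀ x ∈ U, ∀ y ∈ U, φ i (x * y) = φ i x + φ i y) (hD : ∀ i, ∀ d ∈ D, φ i d = 0)
    (h0 : ∀ i, ∀ x ∈ R i, φ i x = 0 → x = 1) (h1 : ∀ i j, R i = R j ∨ ∀ x ∈ R j, φ i x = 0) :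
    (⨆ i, R i) ⊓ D = ⊥ := by
  classical
  have := Fintype.ofFinite ι
  have hφ1 : ∀ i, φ i 1 = 0 := fun i => by
    have := hφ i 1 (one_mem _) 1 (one_mem _)
    rw [one_mul] at this
    exact left_eq_add.1 this
  have hφinv : ∀ i, ∀ x ∈ U, φ i x = 0 → φ i x⁻¹ = 0 := fun i x hx h => by
    have h2 := hφ i x hx x⁻¹ (inv_mem hx)
    rw [mul_inv_cancel, hφ1, h, zero_add] at h2
    exact h2.symm
  have hKer : ∀ (i : ι) (s : Finset ι), (∀ b ∈ s, R i ≠ R b) → ∀ x ∈ ⨆ j ∈ s, R j, φ i x = 0 := by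
    intro i s hs x hx
    let K : Subgroup G :=
      { carrier := {x | x ∈ U ∧ φ i x = 0}
        one_mem' := ⟨one_mem _, hφ1 i⟩
        mul_mem' := by
          rintro x y ⟨hx, hx1⟩ ⟨hy, hy1⟩
          exact ⟨mul_mem hx hy, by rw [hφ i x hx y hy, hx1, hy1, add_zero]⟩
        inv_mem' := by
          rintro x ⟨hx, hx1⟩
          exact ⟨inv_mem hx, hφinv i x hx hx1⟩ }
    have h2 : (⨆ j ∈ s, R j) ≤ K := iSup₂_le fun j hj x hx => ⟨hRU j hx, ((h1 i j).resolve_left (hs j hj)) x hx⟩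
    exact (h2 hx).2
  have key : ∀ s : Finset ι, ∀ x ∈ ⨆ j ∈ s, R j, x ∈ D → x = 1 := by
    intro s
    induction s using Finset.induction_on with
    | empty =>
      intro x hx _
      simpa using hx
    | insert a s has ih =>
      intro x hx hxD
      rw [Finset.iSup_insert] at hx
      by_cases hex : ∃ b ∈ s, R a = R b
      · obtain ⟨b, hb, hab⟩ := hex
        refine ih x ((sup_le ?_ le_rfl : R a ⊔ (⨆ j ∈ s, R j) ≤ ⨆ j ∈ s, R j) hx) hxD
        rw [hab]
        exact le_iSup₂_of_le b hb le_rfl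
      · push Not at hex
        have hsU : (⨆ j ∈ s, R j) ≤ U := iSup₂_le fun j _ => hRU j
        have hn : R a ≤ normalizer ((⨆ j ∈ s, R j : Subgroup G) : Set G) := by
          intro y hy
          rw [mem_normalizer_iff]
          intro z
          have hc : ∀ z ∈ U, y * z * y⁻¹ = z := fun z hz => by rw [hU y (hRU a hy) z hz, mul_inv_cancel_right]
          constructor
          · intro hz
            rw [hc z (hsU hz)]
            exact hz
          · intro hz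
            have h3 : z ∈ U := by
              have h4 := mul_mem (mul_mem (inv_mem (hRU a hy)) (hsU hz)) (hRU a hy)
              have e : y⁻¹ * (y * z * y⁻¹) * y = z := by group
              rwa [e] at h4
            rwa [hc z h3] at hz
        rw [← SetLike.mem_coe, Subgroup.coe_mul_of_left_le_normalizer_right _ _ hn, Set.mem_mul] at hx
        obtain ⟨y, hy, z, hz, rfl⟩ := hx
        have h2 := hKer a s hex z hz
        have h3 := hD a _ hxD
        rw [hφ a y (hRU a hy) z (hsU hz), h2, add_zero] at h3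
        have h4 := h0 a y hy h3
        rw [h4, one_mul] at hxD ⊢
        exact ih z hz hxD
  rw [eq_bot_iff]
  intro x hx
  obtain ⟨h2, h3⟩ := mem_inf.1 hx
  rw [mem_bot]
  refine key Finset.univ x ?_ h3
  simpa using h2

/-! ### Offenders with constant commutators -/

/-- `A ≤ S` centralises `D`, moves `U`, `[r, A] = R` (as sets) for all `r ∈ U - C(A)`. -/
structure RA (S D U A R : Subgroup G) : Prop where
  le : A ≤ S
  mov : ¬ A ≤ centralizer (U : Set G)
  root : ∀ r ∈ U, r ∉ centralizer (A : Set G) → ∀ x, x ∈ R ↔ ∃ a ∈ A, r * a * r⁻¹ * a⁻¹ = x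
  ker : ∀ g ∈ S, (∀ d ∈ D, g * d = d * g) → (∀ v ∈ U, g * v * g⁻¹ * v⁻¹ ∈ D) → g ∈ centralizer (U : Set G)

section nat

open Cfsg.Agent.Omega.NatPair (ap ap_mul ap_one ap_inv_ap ap_inj ext2)
open Cfsg.Agent.Lib.SL2Mat
open NOThreeL.NF.NatR (ap_up)

variable {F : Type} [Field F] {S P D U A R : Subgroup G} {k : ℕ} (M : NatKM F S P U D k)

theorem e_one : M.e 1 = 0 := by
  have h := M.mul 1 (one_mem _) 1 (one_mem _)
  rw [one_mul] at h
  exact left_eq_add.1 h

theorem e_inv {v : G} (hv : v ∈ U) : M.e v⁻¹ = - M.e v := by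
  have h := M.mul v hv v⁻¹ (inv_mem hv)
  rw [mul_inv_cancel, e_one] at h
  exact (neg_eq_of_add_eq_zero_right h.symm).symm

theorem exists_pt (i : Fin k) (x : Fin 2 → F) : ∃ v ∈ U, M.e v i = x ∧ ∀ j, j ≠ i → M.e v j = 0 := by
  classical
  obtain ⟨v, hv, hev⟩ := M.surj (Pi.single i x)
  exact ⟨v, hv, by rw [hev, Pi.single_eq_same], fun j hj => by rw [hev]; exact Pi.single_eq_of_ne hj _⟩

/-- the commutator with an element which acts as `up b` -/
theorem e_comm (hPU : P ≤ normalizer (U : Set G)) {a : G} (ha : a ∈ P) {b : Fin k → F}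
    (hab : ActsSL M.e U D a fun i => up (b i)) {r : G} (hr : r ∈ U) (j : Fin k) :
    M.e (r * a * r⁻¹ * a⁻¹) j = ![-(b j * M.e r j 1), 0] := by
  have h1 : a * r⁻¹ * a⁻¹ ∈ U := (mem_normalizer_iff.1 (hPU ha) _).1 (inv_mem hr)
  have e : r * a * r⁻¹ * a⁻¹ = r * (a * r⁻¹ * a⁻¹) := by group
  rw [e, M.mul r hr _ h1, Pi.add_apply, hab.1 _ (inv_mem hr) j, ap_up, e_inv M hr, Pi.neg_apply]
  refine ext2 ?_ ?_
  · simp
  · simp

end nat

section ra

variable {S D U A R : Subgroup G} (h : RA S D U A R)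
include h

theorem RA.exists_mov : ∃ r ∈ U, r ∉ centralizer (A : Set G) := by
  by_contra hcon
  push Not at hcon
  exact h.mov (comm_symm hcon)

theorem RA.le_U (hSU : S ≤ normalizer (U : Set G)) : R ≤ U := by
  obtain ⟨r, hr, hrA⟩ := h.exists_mov
  intro x hx
  obtain ⟨a, ha, rfl⟩ := (h.root r hr hrA x).1 hx
  have h1 : a * r⁻¹ * a⁻¹ ∈ U := (mem_normalizer_iff.1 (hSU (h.le ha)) _).1 (inv_mem hr)
  have e : r * a * r⁻¹ * a⁻¹ = r * (a * r⁻¹ * a⁻¹) := by group
  rw [e]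
  exact mul_mem hr h1

theorem RA.conj (hSU : S ≤ normalizer (U : Set G)) {s : G} (hs : s ∈ S) :
    RA S D U (MulAut.conj s • A) (MulAut.conj s • R) where
  le := by
    have h1 := conj_le_iff (g := s).2 h.le
    rwa [NOne.Flat.conj_eq_of_norm (le_normalizer hs)] at h1
  mov := fun h1 => h.mov (by
    have h2 : MulAut.conj s • A ≤ MulAut.conj s • centralizer (U : Set G) := by
      rwa [NOne.Flat.conj_centralizer, NOne.Flat.conj_eq_of_norm (hSU hs)]
    exact conj_le_iff.1 h2)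
  root := by
    intro r hr hrA x
    have hr' : s⁻¹ * r * s ∈ U := by
      have := (mem_normalizer_iff.1 (hSU (inv_mem hs)) r).1 hr
      rwa [inv_inv] at this
    have hrA' : s⁻¹ * r * s ∉ centralizer (A : Set G) := by
      intro h1
      apply hrA
      rw [← NOne.Flat.conj_centralizer, mem_conj]
      exact h1
    rw [mem_conj, h.root _ hr' hrA']
    constructor
    · rintro ⟨a, ha, h1⟩
      refine ⟨s * a * s⁻¹, ?_, ?_⟩
      · rw [mem_conj]
        have e : s⁻¹ * (s * a * s⁻¹) * s = a := by group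
        rwa [e]
      · have e : r * (s * a * s⁻¹) * r⁻¹ * (s * a * s⁻¹)⁻¹ =
          s * (s⁻¹ * r * s * a * (s⁻¹ * r * s)⁻¹ * a⁻¹) * s⁻¹ := by group
        rw [e, h1]
        group
    · rintro ⟨a, ha, rfl⟩
      rw [mem_conj] at ha
      refine ⟨_, ha, ?_⟩
      group
  ker := h.ker

end ra

section natTwo

open Cfsg.Agent.Omega.NatPair (ap ap_mul ap_one ap_inv_ap ap_inj ext2)
open Cfsg.Agent.Lib.SL2Mat

variable {F : Type} [Field F] {S P D U A R : Subgroup G} {k : ℕ} (M : NatKM F S P U D k)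

/-- `a` acts as `up b` on the `i`-th block and trivially on the others -/
def At (a : G) (i : Fin k) (b : F) : Prop := ActsSL M.e U D a fun j => up ((Pi.single i b : Fin k → F) j)

/-- `A` acts as the full root group of the `i`-th block -/
structure Ro (A : Subgroup G) (i : Fin k) : Prop where
  acts : ∀ a ∈ A, ∃ b, At M a i b
  ex : ∀ b, ∃ a ∈ A, At M a i b

variable (hPU : P ≤ normalizer (U : Set G)) (hSP : S ≤ P)
include hPU hSP

theorem mem_ker_of_zero (h : RA S D U A R) {a : G} (ha : a ∈ A) {b : Fin k → F}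
    (hab : ActsSL M.e U D a fun i => up (b i)) (hb : b = 0) : a ∈ centralizer (U : Set G) := by
  refine h.ker a (h.le ha) hab.2 fun v hv => ?_
  have hm : a * v * a⁻¹ ∈ U := (mem_normalizer_iff.1 (hPU (hSP (h.le ha))) v).1 hv
  rw [← M.ker _ (mul_mem hm (inv_mem hv)), M.mul _ hm _ (inv_mem hv), e_inv M hv]
  funext i
  have e0 : up (b i) = 1 := by rw [hb, Pi.zero_apply, up_zero]
  rw [Pi.add_apply, hab.1 v hv i]
  change ap (up (b i)) (M.e v i) + _ = _
  rw [e0, ap_one, Pi.neg_apply, add_neg_cancel, Pi.zero_apply]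

/-- **one block** -/
theorem exists_block (h : RA S D U A R) (hoff : OffM U A) : ∃ i, Ro M A i := by
  classical
  obtain ⟨I, h1, h2⟩ := M.offM A h.le hoff
  have hI : I.Nonempty := by
    rw [Set.nonempty_iff_ne_empty]
    rintro rfl
    refine h.mov fun a ha => ?_
    obtain ⟨b, hb, hab⟩ := h1 a ha
    exact mem_ker_of_zero M hPU hSP h ha hab (funext fun i => hb i (Set.notMem_empty i))
  obtain ⟨i, hi⟩ := hI
  have hs : ∀ j ∈ I, ∀ b : F, ∀ l, l ∉ I → (Pi.single j b : Fin k → F) l = 0 := by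
    intro j hj b l hl
    have : l ≠ j := fun h3 => hl (by rw [h3]; exact hj)
    rw [Pi.single_apply, if_neg this]
  have hv : ∀ j ∈ I, ∃ v ∈ U, (M.e v j = ![0, 1] ∧ ∀ l, l ≠ j → M.e v l = 0) ∧ v ∉ centralizer (A : Set G) ∧
      ∃ x ∈ R, M.e x j 0 ≠ 0 := by
    intro j hj
    obtain ⟨v, hv, hvj, hvl⟩ := exists_pt M j ![0, 1]
    obtain ⟨a, ha, hab⟩ := h2 (Pi.single j 1) (hs j hj 1)
    have h3 := e_comm M hPU (hSP (h.le ha)) hab hv j
    have h4 : M.e (v * a * v⁻¹ * a⁻¹) j 0 ≠ 0 := by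
      rw [h3, hvj]
      simp
    have h5 : v ∉ centralizer (A : Set G) := fun hc => h4 (by
      have : v * a * v⁻¹ * a⁻¹ = 1 := by rw [← mem_centralizer_iff.1 hc a ha]; group
      rw [this, e_one M]; rfl)
    exact ⟨v, hv, ⟨hvj, hvl⟩, h5, _, (h.root v hv h5 _).2 ⟨a, ha, rfl⟩, h4⟩
  have huniq : ∀ j ∈ I, j = i := by
    intro j hj
    by_contra hne
    obtain ⟨v, hv1, ⟨hvj, hvl⟩, hvc, x, hx, hxj⟩ := hv j hj
    obtain ⟨w, hw, ⟨hwi, hwl⟩, hwc, -⟩ := hv i hi
    obtain ⟨a, ha, rfl⟩ := (h.root w hw hwc x).1 hx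
    obtain ⟨b, hb, hab⟩ := h1 a ha
    rw [e_comm M hPU (hSP (h.le ha)) hab hw j, hwl j hne] at hxj
    simp at hxj
  refine ⟨i, fun a ha => ?_, fun b => ?_⟩
  · obtain ⟨b, hb, hab⟩ := h1 a ha
    refine ⟨b i, ?_⟩
    have e : b = Pi.single i (b i) := by
      funext j
      by_cases hj : j = i
      · subst hj; rw [Pi.single_eq_same]
      · rw [Pi.single_eq_of_ne hj, hb j fun h4 => hj (huniq j h4)]
    unfold At
    rwa [← e]
  · obtain ⟨a, ha, hab⟩ := h2 (Pi.single i b) (hs i hi b)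
    exact ⟨a, ha, hab⟩

/-- a moved vector -/
theorem Ro.exists_mov {i : Fin k} (hB : Ro M A i) (h : RA S D U A R) : ∃ v ∈ U, v ∉ centralizer (A : Set G) ∧
    M.e v i = ![0, 1] ∧ ∀ l, l ≠ i → M.e v l = 0 := by
  obtain ⟨v, hv, hvj, hvl⟩ := exists_pt M i ![0, 1]
  refine ⟨v, hv, fun hc => ?_, hvj, hvl⟩
  obtain ⟨a, ha, hab⟩ := hB.ex 1
  have h3 := e_comm M hPU (hSP (h.le ha)) hab hv i
  have : v * a * v⁻¹ * a⁻¹ = 1 := by rw [← mem_centralizer_iff.1 hc a ha]; group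
  rw [this, e_one M, hvj] at h3
  have h4 := congrFun h3 0
  simp at h4

/-- **`R` is in the `i`-th block, `R ∩ D = 1`** -/
theorem Ro.supp {i : Fin k} (hB : Ro M A i) (h : RA S D U A R) {x : G} (hx : x ∈ R) :
    (∀ j, j ≠ i → M.e x j = 0) ∧ (M.e x i = 0 → x = 1) := by
  obtain ⟨v, hv, hvc, hvi, hvl⟩ := hB.exists_mov M hPU hSP h
  obtain ⟨a, ha, rfl⟩ := (h.root v hv hvc x).1 hx
  obtain ⟨b, hab⟩ := hB.acts a ha
  have h3 := fun j => e_comm M hPU (hSP (h.le ha)) hab hv j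
  refine ⟨fun j hj => ?_, fun h0 => ?_⟩
  · rw [h3 j, hvl j hj]
    exact ext2 (by simp) (by simp)
  · rw [h3 i, hvi] at h0
    have h4 := congrFun h0 0
    simp at h4
    have h5 := mem_ker_of_zero M hPU hSP h ha hab (by rw [h4, Pi.single_zero])
    rw [mem_centralizer_iff.1 h5 v hv]
    group

/-- **the same block, the same `R`** -/
theorem Ro.le {i : Fin k} (hB : Ro M A i) (h : RA S D U A R) {A' R' : Subgroup G} (hB' : Ro M A' i)
    (h' : RA S D U A' R') : R ≤ R' := by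
  intro x hx
  obtain ⟨v, hv, hvc, -⟩ := hB.exists_mov M hPU hSP h
  obtain ⟨v, hv, hvc, hvi, hvl⟩ := hB.exists_mov M hPU hSP h
  have hvc' : v ∉ centralizer (A' : Set G) := by
    intro hc
    obtain ⟨a, ha, hab⟩ := hB'.ex 1
    have h3 := e_comm M hPU (hSP (h'.le ha)) hab hv i
    have : v * a * v⁻¹ * a⁻¹ = 1 := by rw [← mem_centralizer_iff.1 hc a ha]; group
    rw [this, e_one M, hvi] at h3
    have h4 := congrFun h3 0
    simp at h4
  obtain ⟨a, ha, rfl⟩ := (h.root v hv hvc x).1 hx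
  obtain ⟨b, hab⟩ := hB.acts a ha
  obtain ⟨a', ha', hab'⟩ := hB'.ex b
  refine (h'.root v hv hvc' _).2 ⟨a', ha', ?_⟩
  have haS := h.le ha
  have haS' := h'.le ha'
  -- `a⁻¹ a'` centralises `U`
  have hk : a⁻¹ * a' ∈ centralizer (U : Set G) := by
    refine h.ker _ (mul_mem (inv_mem haS) haS') (fun d hd => ?_) fun u hu => ?_
    · have h1 : Commute a d := hab.2 d hd
      have h2 : Commute a' d := hab'.2 d hd
      exact (h1.inv_left.mul_left h2).eq
    · set w := a⁻¹ * a' * u * (a⁻¹ * a')⁻¹ with hw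
      have hwU : w ∈ U := (mem_normalizer_iff.1 (hPU (hSP (mul_mem (inv_mem haS) haS'))) u).1 hu
      rw [← M.ker _ (mul_mem hwU (inv_mem hu)), M.mul _ hwU _ (inv_mem hu), e_inv M hu]
      have e : a * w * a⁻¹ = a' * u * a'⁻¹ := by rw [hw]; group
      funext j
      have h3 := hab.1 w hwU j
      have h4 := hab'.1 u hu j
      rw [e, h4] at h3
      have h5 : M.e w j = M.e u j := by
        have := congrArg (fun y => ap ((up ((Pi.single i b : Fin k → F) j))⁻¹) y) h3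
        simp only [ap_inv_ap] at this
        exact this.symm
      rw [Pi.add_apply, h5, Pi.neg_apply, add_neg_cancel, Pi.zero_apply]
  have h6 := mem_centralizer_iff.1 hk v⁻¹ (inv_mem hv)
  have e1 : v * a' * v⁻¹ * a'⁻¹ = v * a * (a⁻¹ * a' * v⁻¹) * (a⁻¹ * a')⁻¹ * a⁻¹ := by group
  rw [e1, ← h6]
  group

/-- **`⟨R^S⟩ ∩ D = 1`**, natural case -/
theorem inf_eq_bot_nat [Finite G] (M : NatKM F S P U D k) (h : RA S D U A R) (hoff : OffM U A)
    (hU : ∀ u ∈ U, ∀ v ∈ U, u * v = v * u) (hDU : D ≤ U) : (⨆ s : S, MulAut.conj (s : G) • R) ⊓ D = ⊥ := by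
  have hSU := hSP.trans hPU
  have hc : ∀ s : S, RA S D U (MulAut.conj (s : G) • A) (MulAut.conj (s : G) • R) := fun s => h.conj hSU s.2
  have ho : ∀ s : S, OffM U (MulAut.conj (s : G) • A) := fun s =>
    NOThreeL.NF.NatR.offM_cj (g := (s : G)) hoff (hSU s.2)
  choose i hi using fun s : S => exists_block M hPU hSP (hc s) (ho s)
  refine iSup_inf_eq_bot (U := U) (fun s : S => MulAut.conj (s : G) • R) (fun s => (hc s).le_U hSU) hU
    (fun s x => M.e x (i s)) (fun s x hx y hy => by rw [M.mul x hx y hy]; rfl) (fun s d hd => ?_)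
    (fun s x hx h0 => ((hi s).supp M hPU hSP (hc s) hx).2 h0) fun s t => ?_
  · have h1 := (M.ker d (hDU hd)).2 hd
    change M.e d (i s) = 0
    rw [h1]; rfl
  · by_cases hst : i s = i t
    · left
      have ht := hi t
      rw [← hst] at ht
      exact le_antisymm ((hi s).le M hPU hSP (hc s) ht (hc t)) (ht.le M hPU hSP (hc t) (hi s) (hc s))
    · right
      exact fun x hx => ((hi t).supp M hPU hSP (hc t) hx).1 _ hst

end natTwo

section symTwo

open Cfsg.Agent.Omega.Half.SymA (Pt pm pm_swap exists_third zmod2 zmod2_ne)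
open scoped Classical

variable {S P D U A R : Subgroup G} {k m : ℕ} (M : SymKM S P U D k m)

/-- the characteristic function modulo `D` -/
def ED (v : G) (p : Pt k m) : ZMod 2 := M.e v p.1 p.2

theorem ED_mul {v w : G} (hv : v ∈ U) (hw : w ∈ U) (p : Pt k m) : ED M (v * w) p = ED M v p + ED M w p := by
  rw [ED, M.mul v hv w hw]
  rfl

theorem ED_one (p : Pt k m) : ED M 1 p = 0 := by
  have h := ED_mul M (one_mem U) (one_mem U) p
  rw [one_mul] at h
  exact left_eq_add.1 h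

theorem ED_inv {v : G} (hv : v ∈ U) (p : Pt k m) : ED M v⁻¹ p = ED M v p := by
  have h := ED_mul M hv (inv_mem hv) p
  rw [mul_inv_cancel, ED_one] at h
  have h1 : ED M v⁻¹ p = -ED M v p := (neg_eq_of_add_eq_zero_right h.symm).symm
  rw [h1]
  exact CharTwo.neg_eq _

theorem mem_D_of_ED {v : G} (hv : v ∈ U) (h : ∀ p, ED M v p = 0) : v ∈ D :=
  (M.ker v hv).1 (by funext i x; exact h (i, x))

/-- the pair `{p, q}` -/
theorem exists_pairD {p q : Pt k m} (hpq : p.1 = q.1) :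
    ∃ v ∈ U, ∀ r, ED M v r = (if r = p then 1 else 0) + (if r = q then 1 else 0) := by
  have h1 : ∀ (i : Fin k) (p : Pt k m),
      ∑ x, (if ((i, x) : Pt k m) = p then (1 : ZMod 2) else 0) = if i = p.1 then 1 else 0 := by
    intro i p
    by_cases hi : i = p.1
    · rw [if_pos hi, Finset.sum_eq_single p.2]
      · rw [if_pos (show ((i, p.2) : Pt k m) = p from Prod.ext hi rfl)]
      · intro b _ hb
        rw [if_neg]
        intro h
        exact hb (congrArg Prod.snd h)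
      · intro h
        exact absurd (Finset.mem_univ _) h
    · rw [if_neg hi]
      apply Finset.sum_eq_zero
      intro x _
      rw [if_neg]
      intro h
      exact hi (congrArg Prod.fst h)
  obtain ⟨v, hv, h⟩ := M.surj (fun i x => (if ((i, x) : Pt k m) = p then (1 : ZMod 2) else 0) +
    (if ((i, x) : Pt k m) = q then 1 else 0)) (fun i => by
      rw [Finset.sum_add_distrib, h1, h1, hpq]
      exact CharTwo.add_self_eq_zero _)
  exact ⟨v, hv, fun r => by rw [ED, h]⟩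

/-- `g` moves the points by `π` -/
def MvD (g : G) (π : Equiv.Perm (Pt k m)) : Prop := ∀ v ∈ U, ∀ p, ED M (g * v * g⁻¹) (π p) = ED M v p

theorem MvD_one : MvD M 1 1 := by
  intro v _ p
  rw [one_mul, inv_one, mul_one]
  rfl

theorem mvD_pm {g : G} {σ : Equiv.Perm (Fin k)} {τ : Fin k → Equiv.Perm (Fin (2 ^ m + 1))}
    (h : ActsSym M.e U g σ τ) : MvD M g (pm σ τ) := fun v hv p => h v hv p.1 p.2

theorem sepD (hm : 1 ≤ m) {p q : Pt k m} (hpq : p ≠ q) : ∃ v ∈ U, ED M v p = 1 ∧ ED M v q = 0 := by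
  obtain ⟨c, hc1, hc2⟩ := exists_third hm p.2 q.2
  obtain ⟨v, hv, h⟩ := exists_pairD M (p := p) (q := (p.1, c)) rfl
  refine ⟨v, hv, ?_, ?_⟩
  · rw [h, if_pos rfl, if_neg, add_zero]
    intro h1
    exact hc1 (congrArg Prod.snd h1).symm
  · rw [h, if_neg hpq.symm, if_neg, add_zero]
    intro h1
    exact hc2 (congrArg Prod.snd h1).symm

variable (hPU : P ≤ normalizer (U : Set G)) (hSP : S ≤ P)

section
include hPU

theorem conjU {g v : G} (hg : g ∈ P) (hv : v ∈ U) : g * v * g⁻¹ ∈ U := (mem_normalizer_iff.1 (hPU hg) v).1 hv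

variable {M}

theorem MvD.unique (hm : 1 ≤ m) {g : G} {π ρ : Equiv.Perm (Pt k m)} (hπ : MvD M g π) (hρ : MvD M g ρ) (hg : g ∈ P) :
    π = ρ := by
  ext1 p
  by_contra hne
  obtain ⟨w, hw, h1, h2⟩ := sepD M hm hne
  have h3 : g⁻¹ * w * g⁻¹⁻¹ ∈ U := conjU hPU (inv_mem hg) hw
  have h4 : g * (g⁻¹ * w * g⁻¹⁻¹) * g⁻¹ = w := by group
  have h5 := hπ _ h3 p
  have h6 := hρ _ h3 p
  rw [h4] at h5 h6
  rw [h1] at h5
  rw [h2, ← h5] at h6
  exact one_ne_zero h6.symm

theorem MvD.mul {g h : G} {π ρ : Equiv.Perm (Pt k m)} (hπ : MvD M g π) (hρ : MvD M h ρ) (hh : h ∈ P) :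
    MvD M (g * h) (π * ρ) := by
  intro v hv p
  have e1 : g * h * v * (g * h)⁻¹ = g * (h * v * h⁻¹) * g⁻¹ := by group
  rw [e1, Equiv.Perm.mul_apply, hπ _ (conjU hPU hh hv), hρ v hv]

theorem MvD.pow {g : G} {π : Equiv.Perm (Pt k m)} (hπ : MvD M g π) (hg : g ∈ P) (n : ℕ) :
    MvD M (g ^ n) (π ^ n) := by
  induction n with
  | zero => rw [pow_zero, pow_zero]; exact MvD_one M
  | succ n ih => rw [pow_succ, pow_succ]; exact ih.mul hPU hπ hg

/-- the commutator -/
theorem MvD.comm {a : G} {π : Equiv.Perm (Pt k m)} (hπ : MvD M a π) (ha : a ∈ P) {r : G} (hr : r ∈ U) (w : Pt k m) :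
    ED M (r * a * r⁻¹ * a⁻¹) w = ED M r w + ED M r (π⁻¹ w) := by
  have e : r * a * r⁻¹ * a⁻¹ = r * (a * r⁻¹ * a⁻¹) := by group
  rw [e, ED_mul M hr (conjU hPU ha (inv_mem hr))]
  congr 1
  have h1 := hπ r⁻¹ (inv_mem hr) (π⁻¹ w)
  rw [show π (π⁻¹ w) = w from π.apply_symm_apply w, ED_inv M hr] at h1
  exact h1

end

include hPU hSP

/-- an element of `S` which is trivial modulo `D` -/
theorem mem_cent_of_mv (h : RA S D U A R) {a : G} (ha : a ∈ S) (cD : ∀ d ∈ D, a * d = d * a)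
    (h1 : MvD M a 1) : a ∈ centralizer (U : Set G) := by
  refine h.ker a ha cD fun v hv => ?_
  have hm := conjU hPU (hSP ha) hv
  refine mem_D_of_ED M (mul_mem hm (inv_mem hv)) fun p => ?_
  rw [ED_mul M hm (inv_mem hv), ED_inv M hv]
  have h2 := h1 v hv p
  rw [Equiv.Perm.one_apply] at h2
  rw [h2]
  exact CharTwo.add_self_eq_zero _

/-- `A` acts as the transposition `(p q)` -/
structure Tr (A : Subgroup G) (p q : Pt k m) : Prop where
  ne : p ≠ q
  fst : p.1 = q.1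
  snd : p.2 ≠ 0
  snd' : q.2 ≠ 0
  cD : ∀ a ∈ A, ∀ d ∈ D, a * d = d * a
  ex : ∃ b ∈ A, MvD M b (Equiv.swap p q)
  all : ∀ a ∈ A, MvD M a 1 ∨ MvD M a (Equiv.swap p q)

omit hSP in
/-- `{p, 0}` is moved by an element which acts as `(p q)` -/
theorem not_cent_of_swap {p q : Pt k m} (hpq : p ≠ q) (hq : q.2 ≠ 0) {r : G} (hr : r ∈ U)
    (hrE : ∀ w, ED M r w = (if w = p then 1 else 0) + (if w = (p.1, 0) then 1 else 0)) {b : G} (hb : b ∈ A)
    (hbP : b ∈ P) (hbac : MvD M b (Equiv.swap p q)) (hp : p.2 ≠ 0) : r ∉ centralizer (A : Set G) := by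
  intro hc
  have h1 : r * b * r⁻¹ * b⁻¹ = 1 := by rw [← mem_centralizer_iff.1 hc b hb]; group
  have h2 := hbac.comm hPU hbP hr p
  rw [h1, ED_one, Equiv.swap_inv, Equiv.swap_apply_left, hrE, hrE, if_pos rfl, if_neg (fun h => hp (by rw [h])),
    if_neg hpq.symm, if_neg (fun h => hq (by rw [h])), add_zero, add_zero, add_zero] at h2
  exact zero_ne_one h2

/-- **one transposition** -/
theorem exists_tr (h : RA S D U A R) (hoff : OffM U A) : ∃ p q, Tr M A p q := by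
  obtain ⟨cD, hact⟩ := M.offM A h.le hoff
  have hAP : A ≤ P := h.le.trans hSP
  -- the permutations
  have hπ : ∀ a ∈ A, ∃ π : Equiv.Perm (Pt k m), MvD M a π ∧ (∀ i : Fin k, π (i, 0) = (i, 0)) ∧
      ∀ u, π u ≠ u → π (π u) = u ∧ (π u).1 = u.1 ∧ ∃ b ∈ A, MvD M b (Equiv.swap u (π u)) := by
    intro a ha
    obtain ⟨τ, hτ, h1⟩ := hact a ha
    refine ⟨pm 1 τ, mvD_pm M hτ, fun i => Prod.ext rfl (M.fix0 a (h.le ha) 1 τ hτ i), ?_⟩
    rintro ⟨i, x⟩ hne
    have hix : τ i x ≠ x := fun h2 => hne (Prod.ext rfl h2)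
    obtain ⟨h2, b, hb, hbac⟩ := h1 i x hix
    refine ⟨Prod.ext rfl h2, rfl, b, hb, ?_⟩
    have h3 := mvD_pm M hbac
    have h4 := pm_swap (k := k) (m := m) (p := (i, x)) (q := (i, τ i x)) rfl
    change pm 1 (Function.update 1 i (Equiv.swap x (τ i x))) = _ at h4
    rw [h4] at h3
    exact h3
  -- a moved point is not the zero point
  have hnz : ∀ a ∈ A, ∀ π : Equiv.Perm (Pt k m), (∀ i : Fin k, π (i, 0) = (i, 0)) → ∀ u : Pt k m, π u ≠ u → u.2 ≠ 0 := by
    intro a _ π h0 u hu h2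
    apply hu
    have : u = (u.1, 0) := Prod.ext rfl h2
    rw [this]
    exact h0 _
  obtain ⟨a₀, ha₀, ha₀c⟩ := SetLike.not_le_iff_exists.1 h.mov
  obtain ⟨π₀, hπ₀, hfix₀, hmv₀⟩ := hπ a₀ ha₀
  obtain ⟨p, hp⟩ : ∃ p, π₀ p ≠ p := by
    by_contra hcon
    push Not at hcon
    have e : π₀ = 1 := Equiv.ext hcon
    rw [e] at hπ₀
    exact ha₀c (mem_cent_of_mv M hPU hSP h (h.le ha₀) (cD a₀ ha₀) hπ₀)
  obtain ⟨hinv, hfst, b, hb, hbac⟩ := hmv₀ p hp
  set q := π₀ p with hq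
  have hp2 : p.2 ≠ 0 := hnz a₀ ha₀ π₀ hfix₀ p hp
  have hq2 : q.2 ≠ 0 := hnz a₀ ha₀ π₀ hfix₀ q (by rw [hinv]; exact hp.symm)
  -- the main claim
  have claim : ∀ p' : Pt k m, p'.2 ≠ 0 → (∀ r ∈ U, (∀ w, ED M r w = (if w = p' then 1 else 0) +
      (if w = (p'.1, 0) then 1 else 0)) → r ∉ centralizer (A : Set G)) →
      ∀ a ∈ A, ∀ π : Equiv.Perm (Pt k m), MvD M a π → (∀ i : Fin k, π (i, 0) = (i, 0)) → ∀ u, π u ≠ u →
        u = p' ∨ π u = p' := by
    intro p' hp' hr' a ha π hπa h0 u hu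
    obtain ⟨r, hr, hrE⟩ := exists_pairD M (p := p') (q := (p'.1, 0)) rfl
    obtain ⟨r₁, hr₁, hr₁E⟩ := exists_pairD M (p := u) (q := (u.1, 0)) rfl
    have hu2 := hnz a ha π h0 u hu
    have hou : π⁻¹ (u.1, 0) = (u.1, 0) := by rw [Equiv.Perm.inv_eq_iff_eq, h0]
    -- the commutator of `r₁`
    have hx : ∀ w, ED M (r₁ * a * r₁⁻¹ * a⁻¹) w = (if w = u then 1 else 0) + (if w = π u then 1 else 0) := by
      intro w
      rw [hπa.comm hPU (hAP ha) hr₁, hr₁E, hr₁E]
      have e1 : (π⁻¹ w = u) ↔ (w = π u) := by rw [Equiv.Perm.inv_eq_iff_eq]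
      have e2 : (π⁻¹ w = (u.1, 0)) ↔ (w = (u.1, 0)) := by
        rw [Equiv.Perm.inv_eq_iff_eq, h0]
      rw [if_congr e1 rfl rfl, if_congr e2 rfl rfl]
      have e3 : ∀ x y z : ZMod 2, x + y + (z + y) = x + z := by decide
      exact e3 _ _ _
    have hr₁c : r₁ ∉ centralizer (A : Set G) := by
      intro hc
      have h1 : r₁ * a * r₁⁻¹ * a⁻¹ = 1 := by rw [← mem_centralizer_iff.1 hc a ha]; group
      have h2 := hx u
      rw [h1, ED_one, if_pos rfl, if_neg hu.symm, add_zero] at h2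
      exact zero_ne_one h2
    have hmem := (h.root r₁ hr₁ hr₁c _).2 ⟨a, ha, rfl⟩
    obtain ⟨a', ha', h1⟩ := (h.root r hr (hr' r hr hrE) _).1 hmem
    obtain ⟨π', hπ', h0', -⟩ := hπ a' ha'
    have hx' : ∀ w, ED M (r * a' * r⁻¹ * a'⁻¹) w = (if w = p' then 1 else 0) + (if w = π' p' then 1 else 0) := by
      intro w
      rw [hπ'.comm hPU (hAP ha') hr, hrE, hrE]
      have e1 : (π'⁻¹ w = p') ↔ (w = π' p') := by rw [Equiv.Perm.inv_eq_iff_eq]
      have e2 : (π'⁻¹ w = (p'.1, 0)) ↔ (w = (p'.1, 0)) := by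
        rw [Equiv.Perm.inv_eq_iff_eq, h0']
      rw [if_congr e1 rfl rfl, if_congr e2 rfl rfl]
      have e3 : ∀ x y z : ZMod 2, x + y + (z + y) = x + z := by decide
      exact e3 _ _ _
    have h2 := hx u
    have h3 := hx (π u)
    rw [← h1, hx', if_pos rfl, if_neg hu.symm, add_zero] at h2
    rw [← h1, hx', if_neg hu, if_pos rfl, zero_add] at h3
    by_contra hcon
    push Not at hcon
    rw [if_neg hcon.1, zero_add] at h2
    rw [if_neg hcon.2, zero_add] at h3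
    have h4 : u = π' p' := by
      by_contra h4
      rw [if_neg h4] at h2
      exact zero_ne_one h2
    have h5 : π u = π' p' := by
      by_contra h5
      rw [if_neg h5] at h3
      exact zero_ne_one h3
    exact hu (h5.trans h4.symm)
  have cp := claim p hp2 fun r hr hrE => not_cent_of_swap M hPU hp.symm hq2 hr hrE hb (hAP hb) hbac hp2
  have cq := claim q hq2 fun r hr hrE => not_cent_of_swap M hPU hp hp2 hr hrE hb (hAP hb)
    (by rw [Equiv.swap_comm]; exact hbac) hq2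
  refine ⟨p, q, hp.symm, hfst.symm, hp2, hq2, cD, ⟨b, hb, hbac⟩, fun a ha => ?_⟩
  obtain ⟨π, hπa, h0, hmv⟩ := hπ a ha
  by_cases hpp : π p = p
  · left
    have e : π = 1 := by
      ext1 u
      by_contra hu
      have hu' : π u ≠ u := hu
      rcases cp a ha π hπa h0 u hu' with h1 | h1
      · exact hu' (by rw [h1]; exact hpp)
      · have h2 := (hmv u hu').1
        rw [h1, hpp] at h2
        exact hu' (by rw [h1, h2])
    rwa [e] at hπa
  · right
    have hpq : π p = q := (cq a ha π hπa h0 p hpp).resolve_left hp.symm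
    have e : π = Equiv.swap p q := by
      ext1 u
      by_cases h1 : u = p
      · rw [h1, Equiv.swap_apply_left, hpq]
      · by_cases h2 : u = q
        · rw [h2, Equiv.swap_apply_right, ← hpq]
          exact (hmv p hpp).1
        · rw [Equiv.swap_apply_of_ne_of_ne h1 h2]
          by_contra hu
          rcases cp a ha π hπa h0 u hu with h3 | h3
          · exact h1 h3
          · have h4 := (hmv u hu).1
            rw [h3, hpq] at h4
            exact h2 h4.symm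
    rwa [e] at hπa

omit hPU hSP in
theorem Tr.symm {p q : Pt k m} (hT : Tr M A p q) : Tr M A q p where
  ne := hT.ne.symm
  fst := hT.fst.symm
  snd := hT.snd'
  snd' := hT.snd
  cD := hT.cD
  ex := by
    obtain ⟨b, hb, h1⟩ := hT.ex
    exact ⟨b, hb, by rwa [Equiv.swap_comm]⟩
  all := fun a ha => by
    rw [Equiv.swap_comm]
    exact hT.all a ha

omit hSP in
theorem MvD.inv {g : G} {π : Equiv.Perm (Pt k m)} (hπ : MvD M g π) (hg : g ∈ P) : MvD M g⁻¹ π⁻¹ := by
  intro v hv p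
  have h1 := hπ _ (conjU hPU (inv_mem hg) hv) (π⁻¹ p)
  rw [show π (π⁻¹ p) = p from π.apply_symm_apply p] at h1
  have e : g * (g⁻¹ * v * g⁻¹⁻¹) * g⁻¹ = v := by group
  rw [e] at h1
  exact h1.symm

theorem Tr.exists_mov {p q : Pt k m} (hT : Tr M A p q) (h : RA S D U A R) : ∃ r ∈ U,
    (∀ w, ED M r w = (if w = p then 1 else 0) + (if w = (p.1, 0) then 1 else 0)) ∧ r ∉ centralizer (A : Set G) := by
  obtain ⟨r, hr, hrE⟩ := exists_pairD M (p := p) (q := (p.1, 0)) rfl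
  obtain ⟨b, hb, hbac⟩ := hT.ex
  exact ⟨r, hr, hrE, not_cent_of_swap M hPU hT.ne hT.snd' hr hrE hb (hSP (h.le hb)) hbac hT.snd⟩

/-- **`R` has only `1` and elements with support `{p, q}`** -/
theorem Tr.supp {p q : Pt k m} (hT : Tr M A p q) (h : RA S D U A R) {x : G} (hx : x ∈ R) :
    x = 1 ∨ ∀ w, ED M x w = (if w = p then 1 else 0) + (if w = q then 1 else 0) := by
  obtain ⟨r, hr, hrE, hrc⟩ := hT.exists_mov M hPU hSP h
  obtain ⟨a, ha, rfl⟩ := (h.root r hr hrc x).1 hx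
  rcases hT.all a ha with h1 | h1
  · left
    have h2 := mem_cent_of_mv M hPU hSP h (h.le ha) (hT.cD a ha) h1
    rw [mem_centralizer_iff.1 h2 r hr]
    group
  · right
    intro w
    rw [h1.comm hPU (hSP (h.le ha)) hr, hrE, hrE]
    have e1 : (Equiv.swap p q)⁻¹ w = p ↔ w = q := by
      rw [Equiv.Perm.inv_eq_iff_eq, Equiv.swap_apply_left]
    have e2 : (Equiv.swap p q)⁻¹ w = (p.1, 0) ↔ w = (p.1, 0) := by
      rw [Equiv.Perm.inv_eq_iff_eq, Equiv.swap_apply_of_ne_of_ne (fun h => hT.snd (by rw [← h]))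
        (fun h => hT.snd' (by rw [← h]))]
    rw [if_congr e1 rfl rfl, if_congr e2 rfl rfl]
    have e3 : ∀ x y z : ZMod 2, x + y + (z + y) = x + z := by decide
    exact e3 _ _ _

/-- **the same pair, the same `R`** -/
theorem Tr.le {p q : Pt k m} (hT : Tr M A p q) (h : RA S D U A R) {A' R' : Subgroup G} (hT' : Tr M A' p q)
    (h' : RA S D U A' R') : R ≤ R' := by
  intro x hx
  obtain ⟨r, hr, hrE, hrc⟩ := hT.exists_mov M hPU hSP h
  obtain ⟨b, hb, hbac⟩ := hT'.ex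
  have hrc' := not_cent_of_swap M hPU hT'.ne hT'.snd' hr hrE hb (hSP (h'.le hb)) hbac hT'.snd
  obtain ⟨a, ha, rfl⟩ := (h.root r hr hrc x).1 hx
  rcases hT.all a ha with h1 | h1
  · have h2 := mem_cent_of_mv M hPU hSP h (h.le ha) (hT.cD a ha) h1
    have e : r * a * r⁻¹ * a⁻¹ = 1 := by rw [mem_centralizer_iff.1 h2 r hr]; group
    rw [e]
    exact one_mem _
  · refine (h'.root r hr hrc' _).2 ⟨b, hb, ?_⟩
    have haS := h.le ha
    have hbS := h'.le hb
    have h2 : MvD M (a⁻¹ * b) 1 := by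
      have h3 := (h1.inv M hPU (hSP haS)).mul hPU hbac (hSP hbS)
      rwa [inv_mul_cancel] at h3
    have hk : a⁻¹ * b ∈ centralizer (U : Set G) := by
      refine mem_cent_of_mv M hPU hSP h (mul_mem (inv_mem haS) hbS) (fun d hd => ?_) h2
      have h3 : Commute a d := hT.cD a ha d hd
      have h4 : Commute b d := hT'.cD b hb d hd
      exact (h3.inv_left.mul_left h4).eq
    have h6 := mem_centralizer_iff.1 hk r⁻¹ (inv_mem hr)
    have e1 : r * b * r⁻¹ * b⁻¹ = r * a * (a⁻¹ * b * r⁻¹) * (a⁻¹ * b)⁻¹ * a⁻¹ := by group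
    rw [e1, ← h6]
    group

/-- transpositions of a `2`-group -/
theorem Tr.uniq (hS : IsPGroup 2 S) (hm : 1 ≤ m) {A' : Subgroup G} (hA : A ≤ S) (hA' : A' ≤ S) {p q q' : Pt k m}
    (hT : Tr M A p q) (hT' : Tr M A' p q') : q = q' := by
  by_contra hne
  obtain ⟨b, hb, h3⟩ := hT.ex
  obtain ⟨c, hc, h3'⟩ := hT'.ex
  have h4 := h3.mul hPU h3' (hSP (hA' hc))
  obtain ⟨a, ha⟩ := hS ⟨b * c, mul_mem (hA hb) (hA' hc)⟩
  have ha' : (b * c) ^ 2 ^ a = 1 := congrArg Subtype.val ha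
  have h5 := h4.pow hPU (mul_mem (hSP (hA hb)) (hSP (hA' hc))) (2 ^ a)
  rw [ha'] at h5
  have h6 := h5.unique hPU hm (MvD_one M) (one_mem _)
  have h7 := (Equiv.Perm.isThreeCycle_swap_mul_swap_same hT.ne hT'.ne hne).orderOf
  have h8 := orderOf_dvd_of_pow_eq_one h6
  rw [h7] at h8
  have h9 := (Nat.Prime.dvd_of_dvd_pow Nat.prime_three h8)
  omega

omit hPU hSP in
theorem m_pos {p q : Pt k m} (hT : Tr M A p q) : 1 ≤ m := by
  rcases Nat.eq_zero_or_pos m with h0 | h0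
  · exfalso
    subst h0
    apply hT.ne
    have h1 := hT.snd
    have h2 := hT.snd'
    have h3 : ∀ x y : Fin (2 ^ 0 + 1), x ≠ 0 → y ≠ 0 → x = y := by decide
    exact Prod.ext hT.fst (h3 _ _ h1 h2)
  · exact h0

/-- **`⟨R^S⟩ ∩ D = 1`**, symmetric case -/
theorem inf_eq_bot_sym [Finite G] (M : SymKM S P U D k m) (hS : IsPGroup 2 S) (h : RA S D U A R) (hoff : OffM U A)
    (hU : ∀ u ∈ U, ∀ v ∈ U, u * v = v * u) (hDU : D ≤ U) : (⨆ s : S, MulAut.conj (s : G) • R) ⊓ D = ⊥ := by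
  have hSU := hSP.trans hPU
  have hc : ∀ s : S, RA S D U (MulAut.conj (s : G) • A) (MulAut.conj (s : G) • R) := fun s => h.conj hSU s.2
  have ho : ∀ s : S, OffM U (MulAut.conj (s : G) • A) := fun s =>
    NOThreeL.NF.NatR.offM_cj (g := (s : G)) hoff (hSU s.2)
  choose p q hT using fun s : S => exists_tr M hPU hSP (hc s) (ho s)
  have hm : 1 ≤ m := m_pos M (hT 1)
  refine iSup_inf_eq_bot (U := U) (fun s : S => MulAut.conj (s : G) • R) (fun s => (hc s).le_U hSU) hU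
    (fun s x => ED M x (p s)) (fun s x hx y hy => ED_mul M hx hy _) (fun s d hd => ?_)
    (fun s x hx h0 => ?_) fun s t => ?_
  · have h1 := (M.ker d (hDU hd)).2 hd
    change M.e d (p s).1 (p s).2 = 0
    rw [h1]; rfl
  · refine ((hT s).supp M hPU hSP (hc s) hx).resolve_right fun h1 => ?_
    have h2 := h1 (p s)
    have h0' : ED M x (p s) = 0 := h0
    rw [h0', if_pos rfl, if_neg (hT s).ne, add_zero] at h2
    exact zero_ne_one h2
  · by_cases h1 : p s = p t
    · left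
      have hTt := hT t
      rw [← h1] at hTt
      have h2 := Tr.uniq M hPU hSP hS hm (hc s).le (hc t).le (hT s) hTt
      rw [← h2] at hTt
      exact le_antisymm ((hT s).le M hPU hSP (hc s) hTt (hc t)) (hTt.le M hPU hSP (hc t) (hT s) (hc s))
    · by_cases h2 : p s = q t
      · left
        have hTt := (hT t).symm
        rw [← h2] at hTt
        have h3 := Tr.uniq M hPU hSP hS hm (hc s).le (hc t).le (hT s) hTt
        rw [← h3] at hTt
        exact le_antisymm ((hT s).le M hPU hSP (hc s) hTt (hc t)) (hTt.le M hPU hSP (hc t) (hT s) (hc s))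
      · right
        intro x hx
        rcases (hT t).supp M hPU hSP (hc t) hx with h3 | h3
        · change ED M x (p s) = 0
          rw [h3, ED_one]
        · change ED M x (p s) = 0
          rw [h3, if_neg h1, if_neg h2, add_zero]

end symTwo

end Cfsg.Agent.Omega.NO3S.Pas.AZ

namespace Cfsg.Agent.Omega.NO3S.Pas

open Subgroup Cfsg Cfsg.Agent.ZN Cfsg.Agent.Omega.MinPar
open Cfsg.Agent.Omega.NOne.NearFF (c c_def)
open Cfsg.Agent.Omega.NOThreeL.Low (Fr)
open Cfsg.Agent.Omega.FFThm (ElemM OffM ConclM relIndex_le_iff)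
open Cfsg.Agent.Omega.FrameFF (cv)
open scoped Pointwise

universe v

variable {G : Type v} [Group G] [Finite G] {S : Sylow 2 G} {P V F M : Subgroup G} {n : ℕ}

/-- **ACT (0)**: an active type has `C_Z(P) = 1` if one active type has. -/
theorem WFr.act_cv (w : WFr S M V F) (hFF : FFThm.StmtM.{v}) (f : Fr S M V F n) (hP : IsParS (S : Subgroup G) P)
    (hcv : cv (S : Subgroup G) P = ⊥) (hact : ¬ NOne.Flat.WW V F ≤ o2 P)
    (hk : Key V F (BL M (S : Subgroup G) V F n)) {R : Subgroup G} (hR : IsParS (S : Subgroup G) R)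
    (hactR : ¬ NOne.Flat.WW V F ≤ o2 R) : cv (S : Subgroup G) R = ⊥ := by
  have a := w.act hP hcv hact
  have hr := w.rootN f hP hact hk
  have hLI := w.L_le_IN n hP
  have hrp := rp_of_concl w.hc hP hcv (a.ff hFF).2
  have hmin := w.minN hFF f hP hcv hact hk
  have hZ := zc_le a hFF (bh f).I_le_E hr hLI
  have hUV := w.zl_le_V hR
  have hRU : R ≤ normalizer (zl (S : Subgroup G) R : Set G) := MinSimple.VModule.le_normalizer_zl _ _
  have hmov := w.mov hR hactR
  have hE := w.hyp.elemM_W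
  have hoff : OffM (zl (S : Subgroup G) R) (NOne.Flat.WW V F) :=
    { sq := fun b hb => centralizer_le hUV (hE.sq b hb)
      comm := fun b hb d hd => centralizer_le hUV (hE.comm b hb d hd)
      ne := hmov
      le := relIndex_le_iff.2 (w.hyp.off_of_le_all (w.zl_le_E hR)) }
  obtain ⟨-, hcon⟩ := hFF G (S : Subgroup G) R (MinSimple.EmptyTI.syl_of_le hR.le)
    hR.toIsMinPar (hR.isLoc.char2 S w.hc) ⟨_, w.WS.trans hR.le, hoff⟩
  have hUc : ∀ u ∈ zl (S : Subgroup G) R, ∀ v ∈ zl (S : Subgroup G) R, u * v = v * u :=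
    fun u hu v hv => w.hyp.V_comm (hUV hu) (hUV hv)
  have hDU : cv (S : Subgroup G) R ≤ zl (S : Subgroup G) R := inf_le_left
  -- the ambient interface
  have hra : (∀ b ∈ NOne.Flat.WW V F, ∀ d ∈ cv (S : Subgroup G) R, b * d = d * b) →
      AZ.RA (S : Subgroup G) (cv (S : Subgroup G) R) (zl (S : Subgroup G) R) (NOne.Flat.WW V F)
        ⁅zl (S : Subgroup G) P, NOne.Flat.WW V F⁆ := fun hcD =>
    { le := w.WS
      mov := hmov
      root := fun r hrU hrW x => by
        have hrF : r ∉ F := fun hrF => hrW (by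
          rw [mem_centralizer_iff]
          intro s hs
          exact (NOne.Flat.Hyp.F_comm hrF (NOne.Flat.Hyp.W_le_X hs)).symm)
        have h1 := mem_comm_iff hrp hr hLI hmin (w.L_le_IN n hR hrU) hrF (x := x)
        simpa only [c_def] using h1
      ker := fun g hg h1 h2 => AZ.ker w.hc hR (fun h3 => hmov (by
        intro s hs
        rw [mem_centralizer_iff]
        exact fun u hu => (hcD s hs u (h3 hu)).symm)) hg ⟨hR.le hg, h1, h2⟩ }
  have hinf : (⨆ s : (S : Subgroup G), MulAut.conj (s : G) • ⁅zl (S : Subgroup G) P, NOne.Flat.WW V F⁆) ⊓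
      cv (S : Subgroup G) R = ⊥ := by
    rcases hcon with ⟨K, _, _, _, k, hk, ⟨N⟩⟩ | ⟨k, m, hk, hm, ⟨N⟩⟩
    · refine AZ.inf_eq_bot_nat hRU hR.le N (hra ?_) hoff hUc hDU
      obtain ⟨I, h1, -⟩ := N.offM _ w.WS hoff
      intro b hb
      obtain ⟨_, _, h2⟩ := h1 b hb
      exact h2.2
    · exact AZ.inf_eq_bot_sym hRU hR.le N S.isPGroup' (hra (N.offM _ w.WS hoff).1) hoff hUc hDU
  by_contra hne
  have : Fact (Nat.Prime 2) := ⟨Nat.prime_two⟩
  have hD2 : IsPGroup 2 (cv (S : Subgroup G) R) := by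
    intro x
    refine ⟨1, Subtype.ext ?_⟩
    rw [pow_one, pow_two]
    exact w.hyp.sq' (hUV (hDU x.2))
  have h1 := PLocal.OffenderStep.inf_centralizer_ne_bot (cv (S : Subgroup G) R) (S : Subgroup G) hD2 S.isPGroup'
    (hR.le.trans (AZ.norm_cv (S : Subgroup G) R)) hne
  obtain ⟨x, hx⟩ := Subgroup.ne_bot_iff_exists_ne_one.1 h1
  have hxV : (x : G) ∈ V := hUV (hDU x.2.1)
  have hxS : (x : G) ∈ (S : Subgroup G) := (w.zl_le_E hR |>.trans (NOne.Flat.Hyp.E_le_W.trans w.WS)) (hDU x.2.1)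
  have hxZ : (x : G) ∈ zc (S : Subgroup G) := by
    rw [ChoiceBase.mem_zc]
    exact ⟨hxS, by rw [pow_two]; exact w.hyp.sq' hxV, fun y hy => mem_centralizer_iff.1 x.2.2 y hy⟩
  have h2 : (x : G) ∈ (⨆ s : (S : Subgroup G), MulAut.conj (s : G) • ⁅zl (S : Subgroup G) P, NOne.Flat.WW V F⁆) ⊓
      cv (S : Subgroup G) R := ⟨hZ hxZ, x.2.1⟩
  rw [hinf, mem_bot] at h2
  exact hx (Subtype.ext h2)

end Cfsg.Agent.Omega.NO3S.Pas
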