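import Cfsg.Agent.Omega.NO3S.Pas.Three
import Cfsg.Agent.Omega.NO3S.BetaFF.ActOf
import Cfsg.Agent.Omega.NOThreeL.Low.LA.Plug

/-!
# GammaFF: the front of the W-stage (helper876 #19093 (1)-(4), helper793 #20445)

* `WFr S M V F` : `W_F ≤ S`, `P*(S) ≤ M ≤ N(V)`, NOFF, (low);
* `WFr.fr` : `Low.Fr S M V F 1`: all lines of the chambers `S^y ≥ W` are good;
* `BL M S V F n` : `B = ⟨good lines at distance ≤ n⟩ F`; `Fr.bh` : `BH V F B`; `Fr.three` : `|I : F| ≤ |U : U ∩ E|` for a bad line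
  `U` at distance `≤ n`; `Fr.key` : `|I : F| ≤ |V : E|`; `Fr.span` : `V = U E`.
-/

set_option autoImplicit false
set_option linter.unusedSectionVars false

namespace Cfsg.Agent.Omega.NO3S.Pas

open Subgroup Cfsg Cfsg.Agent.ZN Cfsg.Agent.Omega.MinPar Cfsg.Agent.Omega.Frame Cfsg.Agent.Omega.FrameNOFF
open Cfsg.Agent.Omega.NOne.Flat (Hyp EE WW NN BadX Cos card_mul_relIndex' conj_eq_of_norm conj_centralizer WW_conj
  EE_conj conj_eq_of_cent)
open Cfsg.Agent.Omega.NOne.NearFF (c)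
open Cfsg.Agent.Omega.NoFF.Basic (conj_conj mem_conj conj_le_iff conj_le_centralizer comm_symm Gal)
open Cfsg.Agent.Omega.NOThreeL.Low (Tp Blk Fr Ch BB)
open Cfsg.Agent.Omega.NOThreeL.Low.Key (BH)
open scoped Pointwise

universe u

variable {G : Type u} [Group G] [Finite G] {S : Sylow 2 G} {P V F B : Subgroup G}

/-- The front of the W-stage. -/
structure WFr (S : Sylow 2 G) (M V F : Subgroup G) : Prop where
  hc : IsCharacteristicTwoType G
  noff : ¬ FF (S : Subgroup G)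
  low : ∀ R, IsParS (S : Subgroup G) R → zl (S : Subgroup G) R ≤ o2 (CZ (S : Subgroup G))
  hyp : NOne.Flat.Hyp V F
  PM : ∀ R, IsParS (S : Subgroup G) R → R ≤ M
  MV : M ≤ normalizer (V : Set G)
  ZV : zc (S : Subgroup G) ≤ V
  WS : NOne.Flat.WW V F ≤ (S : Subgroup G)

/-- `BH` for `V`, `F^m`, `B^m`, `m ∈ N(V)`. -/
theorem _root_.Cfsg.Agent.Omega.NOThreeL.Low.Key.BH.conj (h : BH V F B) {m : G} (hm : m ∈ normalizer (V : Set G)) :
    BH V (MulAut.conj m • F) (MulAut.conj m • B) where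
  toHyp := h.toHyp.conj hm
  le_W := by
    rw [← WW_conj hm]
    exact conj_le_iff.2 h.le_W
  F_le := conj_le_iff.2 h.F_le
  abel := conj_le_centralizer h.abel
  norm := by
    rw [← conj_centralizer]
    intro x hx
    rw [mem_conj] at hx
    have h1 := h.norm hx
    rw [mem_normalizer_iff] at h1 ⊢
    intro y
    rw [mem_conj, mem_conj]
    have e : m⁻¹ * (x * y * x⁻¹) * m = m⁻¹ * x * m * (m⁻¹ * y * m) * (m⁻¹ * x * m)⁻¹ := by group
    rw [e]
    exact h1 _

/-- `B = ⟨good lines at distance ≤ n⟩ F` -/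
abbrev BL (M S V F : Subgroup G) (n : ℕ) : Subgroup G := BB M S V F n ⊔ F

section fr

variable {M : Subgroup G} {n : ℕ} (h : Fr S M V F n)
include h

theorem bh : BH V F (BL M (S : Subgroup G) V F n) where
  toHyp := h.hyp
  le_W := sup_le Fr.B_le_W (h.hyp.F_le_E.trans NOne.Flat.Hyp.E_le_W)
  F_le := le_sup_right
  abel := h.sup_comm
  norm := Fr.X_norm_sup

/-- `F ≤ S^g` for the chambers at distance `≤ n`. -/
theorem F_le_conj {j : ℕ} {g : G} (hg : Ch M (S : Subgroup G) (NOne.Flat.WW V F) j g) :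
    F ≤ MulAut.conj g • (S : Subgroup G) := by
  obtain ⟨a, haM, haW, hag⟩ := hg
  induction hag with
  | zero => exact (h.hyp.F_le_E.trans NOne.Flat.Hyp.E_le_W).trans haW
  | @step k a' g' p P hg hP hp ih =>
    refine h.pass hP hp (ih haM haW) ?_
    have h1 : (⟨a', haM, haW, hg⟩ : Ch M (S : Subgroup G) (NOne.Flat.WW V F) _ g') = ⟨a', haM, haW, hg⟩ := rfl
    have h2 : g' ∈ M := h.mem_M ⟨a', haM, haW, hg⟩
    have h3 : MulAut.conj g' • zl (S : Subgroup G) P ≤ V := h.line_le_V h2 hP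
    exact h.hyp.F_le_V.trans (h.hyp.comm.trans (centralizer_le h3))

theorem BL_le_conj {j : ℕ} (hj : j ≤ n) {g : G} (hg : Ch M (S : Subgroup G) (NOne.Flat.WW V F) j g) :
    BL M (S : Subgroup G) V F n ≤ MulAut.conj g • (S : Subgroup G) :=
  sup_le (h.B_le_conj hj hg) (F_le_conj h hg)

/-- **(3)** for a bad line at distance `≤ n`. -/
theorem fr_three {j : ℕ} (hj : j ≤ n) {g : G} (hg : Ch M (S : Subgroup G) (NOne.Flat.WW V F) j g)
    (hP : IsParS (S : Subgroup G) P) (hT : Tp (S : Subgroup G) P)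
    (hUE : ¬ MulAut.conj g • zl (S : Subgroup G) P ≤ EE V F) :
    F.relIndex (V ⊓ BL M (S : Subgroup G) V F n) ≤
      (EE V F).relIndex (MulAut.conj g • zl (S : Subgroup G) P) := by
  have hgM : g ∈ M := h.mem_M hg
  have hgV := h.MV hgM
  have hgV' : g⁻¹ ∈ normalizer (V : Set G) := inv_mem hgV
  have eE : EE V (MulAut.conj g⁻¹ • F) = MulAut.conj g⁻¹ • EE V F := (EE_conj hgV').symm
  have h1 := three (S := S) (P := P) (F := MulAut.conj g⁻¹ • F)
    (B := MulAut.conj g⁻¹ • BL M (S : Subgroup G) V F n) h.hc hP hT ((bh h).conj hgV') ?_ ?_ (h.zl_le_V hP) ?_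
  · have e1 : V ⊓ MulAut.conj g⁻¹ • BL M (S : Subgroup G) V F n =
        MulAut.conj g⁻¹ • (V ⊓ BL M (S : Subgroup G) V F n) := by
      rw [Subgroup.smul_inf, conj_eq_of_norm hgV']
    have e2 : zl (S : Subgroup G) P = MulAut.conj g⁻¹ • (MulAut.conj g • zl (S : Subgroup G) P) := by
      rw [conj_conj, inv_mul_cancel, map_one, one_smul]
    rw [e1, eE, relIndex_pointwise_smul] at h1
    conv_rhs at h1 => rw [e2]
    rwa [relIndex_pointwise_smul] at h1
  · intro b hb
    rw [mem_conj] at hb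
    have h2 := h.sup_sq _ hb
    rw [inv_inv] at h2
    have e : b ^ 2 = g⁻¹ * (g * b * g⁻¹) ^ 2 * g := by rw [pow_two, pow_two]; group
    rw [e, h2]
    group
  · have h2 := conj_le_iff (g := g⁻¹).2 (BL_le_conj h hj hg)
    rwa [conj_conj, inv_mul_cancel, map_one, one_smul] at h2
  · intro h2
    apply hUE
    rw [eE] at h2
    have h3 := conj_le_iff (g := g).2 h2
    rwa [conj_conj, mul_inv_cancel, map_one, one_smul] at h3

/-- `|I : F| ≤ |V : E|` -/
theorem fr_key {j : ℕ} (hj : j ≤ n) {g : G} (hg : Ch M (S : Subgroup G) (NOne.Flat.WW V F) j g)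
    (hP : IsParS (S : Subgroup G) P) (hT : Tp (S : Subgroup G) P)
    (hUE : ¬ MulAut.conj g • zl (S : Subgroup G) P ≤ EE V F) :
    F.relIndex (V ⊓ BL M (S : Subgroup G) V F n) ≤ (EE V F).relIndex V :=
  (fr_three h hj hg hP hT hUE).trans
    (relIndex_le_of_le_right (h.line_le_V (h.mem_M hg) hP) index_ne_zero_of_finite)

/-- `V = U E` for a bad line `U`. -/
theorem fr_span {j : ℕ} (hj : j ≤ n) {g : G} (hg : Ch M (S : Subgroup G) (NOne.Flat.WW V F) j g)
    (hP : IsParS (S : Subgroup G) P) (hT : Tp (S : Subgroup G) P)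
    (hUE : ¬ MulAut.conj g • zl (S : Subgroup G) P ≤ EE V F)
    (hI : ¬ V ⊓ BL M (S : Subgroup G) V F n ≤ F) {v : G} (hv : v ∈ V) :
    ∃ x ∈ MulAut.conj g • zl (S : Subgroup G) P, ∃ e ∈ EE V F, v = x * e := by
  have hcos : Cos id (MulAut.conj g • zl (S : Subgroup G) P) (EE V F) V (EE V F) :=
    ⟨fun u hu => h.line_le_V (h.mem_M hg) hP hu, fun _ _ _ _ => Iff.rfl⟩
  obtain ⟨x, hx, hxv⟩ := hcos.surj (((bh h).relIndex_V_le hI).trans (fr_three h hj hg hP hT hUE)) hv
  exact ⟨x, hx, x⁻¹ * v, hxv, by group⟩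

end fr

namespace WFr

variable {M : Subgroup G} (w : WFr S M V F)
include w

theorem ZF : zc (S : Subgroup G) ≤ F := BetaFF.zc_le_F w.hyp w.ZV w.WS

/-- The lines of the chambers which contain `W` are good. -/
theorem good {g : G} (hg : g ∈ M) (hW : NOne.Flat.WW V F ≤ MulAut.conj g • (S : Subgroup G)) {R : Subgroup G}
    (hR : IsParS (S : Subgroup G) R) : MulAut.conj g • zl (S : Subgroup G) R ≤ EE V F := by
  have hgV := w.MV hg
  have hV : MulAut.conj g • V = V := conj_eq_of_norm hgV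
  refine BetaFF.le_EE_of_low w.hyp ?_ (D := MulAut.conj g • zc (S : Subgroup G)) ?_ ?_
  · rw [← hV]
    exact conj_le_iff.2 (MinSimple.VModule.zl_le w.ZV ((w.PM R hR).trans w.MV))
  · rw [← w.hyp.cent_VW]
    refine le_inf ?_ ?_
    · rw [← hV]
      exact conj_le_iff.2 w.ZV
    · refine comm_symm (hW.trans (conj_le_centralizer ?_))
      exact fun s hs => mem_centralizer_iff.mpr fun z hz => ((ZN.mem_zc.mp hz).2.1 s hs).symm
  · have h1 := conj_le_iff (g := g).2 (w.low R hR)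
    rwa [NOne.Flat.o2_conj, CZ, conj_centralizer] at h1

/-- **The front with `n = 1`.** -/
theorem fr {R : Subgroup G} (hR : IsParS (S : Subgroup G) R) : Fr S M V F 1 where
  hc := w.hc
  noff := w.noff
  hyp := w.hyp
  PM := w.PM
  MV := w.MV
  ZV := w.ZV
  least := by
    intro j hj g hg R' hR'
    obtain rfl : j = 0 := by omega
    exact w.good (hg.mem w.PM) hg.zero_le hR'
  one := by
    have h0 : Ch M (S : Subgroup G) (NOne.Flat.WW V F) 0 1 := ⟨1, one_mem _, by rw [map_one, one_smul]; exact w.WS, Gal.zero _⟩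
    have h1 := h0.mul hR (one_mem R)
    rwa [one_mul] at h1

theorem ch {g : G} (hg : g ∈ M) (hW : NOne.Flat.WW V F ≤ MulAut.conj g • (S : Subgroup G)) :
    Ch M (S : Subgroup G) (NOne.Flat.WW V F) 0 g := ⟨g, hg, hW, Gal.zero _⟩

theorem ch_one : Ch M (S : Subgroup G) (NOne.Flat.WW V F) 0 1 :=
  w.ch (one_mem _) (by rw [map_one, one_smul]; exact w.WS)

theorem ch_par {R : Subgroup G} (hR : IsParS (S : Subgroup G) R) {p : G} (hp : p ∈ R) :
    Ch M (S : Subgroup G) (NOne.Flat.WW V F) 1 p := by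
  have h1 := w.ch_one.mul hR hp
  rwa [one_mul] at h1

/-- a line of a chamber which contains `W` is in `B` -/
theorem line_le_BL {g : G} (hg : g ∈ M) (hW : NOne.Flat.WW V F ≤ MulAut.conj g • (S : Subgroup G)) {R : Subgroup G}
    (hR : IsParS (S : Subgroup G) R) :
    MulAut.conj g • zl (S : Subgroup G) R ≤ BL M (S : Subgroup G) V F 1 :=
  (Fr.le_BB' (Fr.mem_Gd (Nat.zero_le 1) (w.ch hg hW) hR (w.good hg hW hR))).trans le_sup_left

theorem zl_le_BL {R : Subgroup G} (hR : IsParS (S : Subgroup G) R) :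
    zl (S : Subgroup G) R ≤ BL M (S : Subgroup G) V F 1 := by
  have h1 := w.line_le_BL (one_mem M) (by rw [map_one, one_smul]; exact w.WS) hR
  rwa [map_one, one_smul] at h1

end WFr

end Cfsg.Agent.Omega.NO3S.Pas
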