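import Cfsg.Agent.Omega.NOne.Flat.Conj
import Cfsg.Agent.Omega.NOne.Flat.Off

/-!
# GammaFF, passive types: `n = 1` is impossible (helper793 #20445 (P1)), abstract form

`S ≤ P₀ ∩ P₂`; `L ≤ V` is `P₀`-invariant, `D ≤ V` is `P₂`-invariant (`L = V_{P₀}`, `D = V_{P₂}`); `W = WW V F ≤ S` moves `L`
(`P₀` is active) and centralises `D` (`P₂` is passive); `B ≤ W` is abelian, `L ≤ B`, `B ≰ N`, `I = (V ∩ B) F`.

* `cov` : `V = D^p E` if `D^p ≰ E` (`p ∈ P₀`);
* `zero` : the lines `L^y`, `D^y` of a chamber `S^y ≥ W` lie in `I` (`y = h⁻¹ p`, `h ∈ P₂`, `p ∈ P₀`);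
* `key` : `W^h ≤ S` (`h ∈ P₂`) centralises `L` or `ρ^h ∈ ρ^S`;
* `gen`, `Dgen` : `P₂ = ⟨a^{P₂}⟩ S` if `a ∈ S` moves `D`; `D ≤ X` if `X ≥ ρ^S` is `P₂`-invariant.

`PasB.le_EE` : `D^p ≤ E` for all `p ∈ P₀`.

Conjugation is on the left: `X^g` is `g X g⁻¹`.
-/

set_option autoImplicit false
set_option linter.unusedSectionVars false

namespace Cfsg.Agent.Omega.NO3S.Pas

open Subgroup Cfsg Cfsg.Agent.Omega.NOne
open Cfsg.Agent.Omega.NOne.NearFF (c c_def)
open scoped Pointwise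

universe u

variable {G : Type u} [Group G] [Finite G]

/-- `I = (V ∩ B) F` -/
abbrev II (V F B : Subgroup G) : Subgroup G := (V ⊓ B) ⊔ F

/-- The situation of (P1). -/
structure PasB (S P₀ P₂ V F B ρ L D : Subgroup G) : Prop where
  hyp : Flat.Hyp V F
  SP₀ : S ≤ P₀
  SP₂ : S ≤ P₂
  VP₀ : P₀ ≤ normalizer (V : Set G)
  VP₂ : P₂ ≤ normalizer (V : Set G)
  LP₀ : P₀ ≤ normalizer (L : Set G)
  DP₂ : P₂ ≤ normalizer (D : Set G)
  LV : L ≤ V
  DV : D ≤ V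
  /-- `S ∩ C(L) = O₂(P₀)` -/
  Q₀ : ∀ p ∈ P₀, ∀ q ∈ S, q ∈ centralizer (L : Set G) → p * q * p⁻¹ ∈ S
  /-- `S ∩ C(D) = O₂(P₂)` -/
  Q₂ : ∀ p ∈ P₂, ∀ q ∈ S, q ∈ centralizer (D : Set G) → p * q * p⁻¹ ∈ S
  WS : Flat.WW V F ≤ S
  mov : ¬ Flat.WW V F ≤ centralizer (L : Set G)
  pas : Flat.WW V F ≤ centralizer (D : Set G)
  BW : B ≤ Flat.WW V F
  Bc : B ≤ centralizer (B : Set G)
  LB : L ≤ B
  BN : ¬ B ≤ Flat.NN V F
  cov : ∀ p ∈ P₀, ¬ MulAut.conj p • D ≤ Flat.EE V F → V ≤ MulAut.conj p • D ⊔ Flat.EE V F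
  zero : ∀ h ∈ P₂, ∀ p ∈ P₀, (∀ w ∈ Flat.WW V F, (h⁻¹ * p)⁻¹ * w * (h⁻¹ * p) ∈ S) →
    MulAut.conj (h⁻¹ * p) • L ≤ II V F B ∧ MulAut.conj (h⁻¹ * p) • D ≤ II V F B
  ρL : ρ ≤ L
  key : ∀ h ∈ P₂, (∀ w ∈ Flat.WW V F, h * w * h⁻¹ ∈ S) → (∃ w ∈ Flat.WW V F, h * w * h⁻¹ ∉ centralizer (L : Set G)) →
    ∃ s ∈ S, MulAut.conj h • ρ = MulAut.conj s • ρ
  gen : ∀ N : Subgroup G, N ≤ P₂ → P₂ ≤ normalizer (N : Set G) → ∀ a ∈ N, a ∈ S → a ∉ centralizer (D : Set G) →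
    P₂ ≤ N ⊔ S
  Dgen : ∀ X : Subgroup G, (∀ s ∈ S, MulAut.conj s • ρ ≤ X) → P₂ ≤ normalizer (X : Set G) → D ≤ X

namespace PasB

variable {S P₀ P₂ V F B ρ L D : Subgroup G} (h : PasB S P₀ P₂ V F B ρ L D)
include h

theorem nm {P X : Subgroup G} (hP : P ≤ normalizer (X : Set G)) {g x : G} (hg : g ∈ P) (hx : x ∈ X) : g * x * g⁻¹ ∈ X :=
  (mem_normalizer_iff.1 (hP hg) x).1 hx

theorem nm' {P X : Subgroup G} (hP : P ≤ normalizer (X : Set G)) {g x : G} (hg : g ∈ P) (hx : x ∈ X) :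
    g⁻¹ * x * g ∈ X := by
  have := h.nm hP (inv_mem hg) hx
  rwa [inv_inv] at this

theorem D_le_F : D ≤ F := by
  rw [← h.hyp.cent_VW]
  exact le_inf h.DV (le_centralizer_iff.1 h.pas)

theorem II_le_V : II V F B ≤ V := sup_le inf_le_left h.hyp.F_le_V

/-- `B` centralises `I`. -/
theorem II_cent {b x : G} (hb : b ∈ B) (hx : x ∈ II V F B) : b * x = x * b := by
  have h1 : II V F B ≤ centralizer ({b} : Set G) := by
    refine sup_le (fun y hy => ?_) fun y hy => ?_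
    · rw [mem_centralizer_singleton_iff]
      exact (mem_centralizer_iff.1 (h.Bc hy.2) b hb).symm
    · rw [mem_centralizer_singleton_iff]
      exact Flat.Hyp.F_comm hy (Flat.Hyp.W_le_X (h.BW hb))
  exact (mem_centralizer_singleton_iff.1 (h1 hx)).symm

/-- `U₀ = L ⟨D^{P₀}⟩` -/
def UU (_h : PasB S P₀ P₂ V F B ρ L D) : Subgroup G := L ⊔ ⨆ p : P₀, MulAut.conj (p : G) • D

theorem L_le_UU : L ≤ h.UU := le_sup_left

theorem conj_le_UU {p : G} (hp : p ∈ P₀) : MulAut.conj p • D ≤ h.UU :=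
  (le_iSup (fun p : P₀ => MulAut.conj (p : G) • D) ⟨p, hp⟩).trans le_sup_right

theorem D_le_UU : D ≤ h.UU := by
  have := h.conj_le_UU (one_mem P₀)
  rwa [map_one, one_smul] at this

theorem UU_le {X : Subgroup G} (h1 : L ≤ X) (h2 : ∀ p ∈ P₀, MulAut.conj p • D ≤ X) : h.UU ≤ X :=
  sup_le h1 (iSup_le fun p => h2 p p.2)

theorem conj_V {g : G} {P : Subgroup G} (hP : P ≤ normalizer (V : Set G)) (hg : g ∈ P) : MulAut.conj g • V = V :=
  Flat.conj_eq_of_norm (hP hg)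

theorem UU_le_V : h.UU ≤ V := by
  refine h.UU_le h.LV fun p hp => ?_
  have h1 := NoFF.Basic.conj_le_iff (g := p) |>.2 h.DV
  rwa [h.conj_V h.VP₀ hp] at h1

/-- `P₀` normalises `U₀`. -/
theorem conj_UU_le {g : G} (hg : g ∈ P₀) : MulAut.conj g • h.UU ≤ h.UU := by
  have h1 : h.UU ≤ MulAut.conj g⁻¹ • h.UU := by
    refine h.UU_le ?_ fun p hp => ?_
    · have h2 := NoFF.Basic.conj_le_iff (g := g⁻¹) |>.2 h.L_le_UU
      rwa [Flat.conj_eq_of_norm (h.LP₀ (inv_mem hg))] at h2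
    · have h2 := NoFF.Basic.conj_le_iff (g := g⁻¹) |>.2 (h.conj_le_UU (mul_mem hg hp))
      rwa [NoFF.Basic.conj_conj, inv_mul_cancel_left] at h2
  have h3 := NoFF.Basic.conj_le_iff (g := g) |>.2 h1
  rwa [NoFF.Basic.conj_conj, mul_inv_cancel, map_one, one_smul] at h3

theorem UU_norm {g u : G} (hg : g ∈ P₀) (hu : u ∈ h.UU) : g * u * g⁻¹ ∈ h.UU :=
  h.conj_UU_le hg (Cfsg.Agent.Omega.NOne.Frame.conj_mem (g := g) hu)

theorem L_le_EE : L ≤ Flat.EE V F :=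
  le_inf h.LV (h.LB.trans (h.BW.trans Flat.Hyp.W_le_R))

theorem DD_le_V {p : G} (hp : p ∈ P₀) : MulAut.conj p • D ≤ V := (h.conj_le_UU hp).trans h.UU_le_V

/-- `V = U₀ F`, if there is a bad `D^p`. -/
theorem V_le {p w : G} (hp : p ∈ P₀) (hw : w ∈ MulAut.conj p • D) (hwE : w ∉ Flat.EE V F) : V ≤ h.UU ⊔ F := by
  have h1 : Flat.EE V F ≤ h.UU ⊔ F := by
    intro e he
    obtain ⟨s, hs, hse⟩ := h.hyp.surj (h.DD_le_V hp hw) hwE he
    have hwU : w ∈ h.UU := h.conj_le_UU hp hw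
    have h2 : c w s ∈ h.UU := by
      have h3 := mul_mem hwU (h.UU_norm (h.SP₀ (h.WS hs)) (inv_mem hwU))
      have e1 : w * (s * w⁻¹ * s⁻¹) = c w s := by rw [c_def]; group
      rwa [e1] at h3
    have e2 : e = (c w s * e⁻¹)⁻¹ * c w s := by group
    rw [e2]
    exact mul_mem (inv_mem (le_sup_right (a := h.UU) hse)) (le_sup_left (b := F) h2)
  refine (h.cov p hp fun h2 => hwE (h2 hw)).trans (sup_le ?_ h1)
  exact (h.conj_le_UU hp).trans le_sup_left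

/-- (c) -/
theorem UU_le_conj {g : G} (hg : g ∈ P₂)
    (hW : ∀ w ∈ Flat.WW V F, g * w * g⁻¹ ∈ S ∧ g * w * g⁻¹ ∈ centralizer (L : Set G)) :
    h.UU ≤ MulAut.conj g • II V F B := by
  have key : ∀ p ∈ P₀, MulAut.conj (g⁻¹ * p) • L ≤ II V F B ∧ MulAut.conj (g⁻¹ * p) • D ≤ II V F B := by
    intro p hp
    refine h.zero g hg p hp fun w hw => ?_
    have h1 := h.Q₀ p⁻¹ (inv_mem hp) _ (hW w hw).1 (hW w hw).2
    have e : p⁻¹ * (g * w * g⁻¹) * p⁻¹⁻¹ = (g⁻¹ * p)⁻¹ * w * (g⁻¹ * p) := by group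
    rwa [e] at h1
  have tr : ∀ X : Subgroup G, MulAut.conj g⁻¹ • X ≤ II V F B → X ≤ MulAut.conj g • II V F B := by
    intro X hX
    have h1 := NoFF.Basic.conj_le_iff (g := g) |>.2 hX
    rwa [NoFF.Basic.conj_conj, mul_inv_cancel, map_one, one_smul] at h1
  refine h.UU_le (tr _ ?_) fun p hp => tr _ ?_
  · have h1 := (key 1 (one_mem _)).1
    rwa [mul_one] at h1
  · have h1 := (key p hp).2
    rwa [← NoFF.Basic.conj_conj] at h1

theorem B_cent_L {b : G} (hb : b ∈ B) : b ∈ centralizer (L : Set G) := by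
  rw [mem_centralizer_iff]
  exact fun l hl => mem_centralizer_iff.1 (h.Bc hb) l (h.LB hl)

theorem a_mem {p b : G} (hp : p ∈ P₀) (hb : b ∈ B) : p⁻¹ * b * p ∈ S := by
  have h1 := h.Q₀ p⁻¹ (inv_mem hp) b (h.WS (h.BW hb)) (h.B_cent_L hb)
  rwa [inv_inv] at h1

/-- (d) -/
theorem cent_D (hV : V ≤ h.UU ⊔ F) {p b g : G} (hp : p ∈ P₀) (hb : b ∈ B) (hg : g ∈ P₂)
    (hW : ∀ w ∈ Flat.WW V F, g * (p⁻¹ * b * p) * g⁻¹ * w * (g * (p⁻¹ * b * p) * g⁻¹)⁻¹ ∈ S ∧
      g * (p⁻¹ * b * p) * g⁻¹ * w * (g * (p⁻¹ * b * p) * g⁻¹)⁻¹ ∈ centralizer (L : Set G)) :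
    p⁻¹ * b * p ∈ centralizer (D : Set G) := by
  set a : G := p⁻¹ * b * p with ha
  have haS : a ∈ S := h.a_mem hp hb
  have hag : g * a * g⁻¹ ∈ P₂ := mul_mem (mul_mem hg (h.SP₂ haS)) (inv_mem hg)
  have h1 := h.UU_le_conj hag hW
  set U' : Subgroup G := MulAut.conj g⁻¹ • h.UU with hU'
  set I' : Subgroup G := MulAut.conj g⁻¹ • II V F B with hI'
  have hUI : U' ≤ MulAut.conj a • I' := by
    have h2 := NoFF.Basic.conj_le_iff (g := g⁻¹) |>.2 h1
    rw [hI', NoFF.Basic.conj_conj]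
    rw [NoFF.Basic.conj_conj] at h2
    have e : g⁻¹ * (g * a * g⁻¹) = a * g⁻¹ := by group
    rwa [e] at h2
  -- `C_{U'}(a) ≤ I'`
  have hC : U' ⊓ centralizer ({a} : Set G) ≤ U' ⊓ I' := by
    rintro x ⟨hx1, hx2⟩
    refine ⟨hx1, ?_⟩
    have h3 := NoFF.Basic.mem_conj.1 (hUI hx1)
    have h4 := mem_centralizer_singleton_iff.1 hx2
    have e : a⁻¹ * x * a = x := by rw [mul_assoc, h4, inv_mul_cancel_left]
    rwa [e] at h3
  have hV' : V ≤ U' ⊔ I' := by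
    have h3 := NoFF.Basic.conj_le_iff (g := g⁻¹) |>.2 (hV.trans (sup_le_sup_left (le_sup_right : F ≤ II V F B) _))
    rwa [h.conj_V h.VP₂ (inv_mem hg), Choice.conj_sup] at h3
  have hU'V : U' ≤ V := by
    have h3 := NoFF.Basic.conj_le_iff (g := g⁻¹) |>.2 h.UU_le_V
    rwa [h.conj_V h.VP₂ (inv_mem hg)] at h3
  have hI'V : I' ≤ V := by
    have h3 := NoFF.Basic.conj_le_iff (g := g⁻¹) |>.2 h.II_le_V
    rwa [h.conj_V h.VP₂ (inv_mem hg)] at h3
  have hVeq : U' ⊔ I' = V := le_antisymm (sup_le hU'V hI'V) hV'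
  -- the indices
  have hab : (V ⊓ centralizer ({a} : Set G) : Subgroup G) = MulAut.conj p⁻¹ • (V ⊓ centralizer ({b} : Set G)) := by
    ext x
    rw [NoFF.Basic.mem_conj, mem_inf, mem_inf, mem_centralizer_singleton_iff, mem_centralizer_singleton_iff,
      inv_inv]
    constructor
    · rintro ⟨hx1, hx2⟩
      refine ⟨h.nm h.VP₀ hp hx1, ?_⟩
      calc p * x * p⁻¹ * b = p * (x * a) * p⁻¹ := by rw [ha]; group
        _ = p * (a * x) * p⁻¹ := by rw [hx2]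
        _ = b * (p * x * p⁻¹) := by rw [ha]; group
    · rintro ⟨hx1, hx2⟩
      refine ⟨?_, ?_⟩
      · have h3 := h.nm' h.VP₀ hp hx1
        have e : p⁻¹ * (p * x * p⁻¹) * p = x := by group
        rwa [e] at h3
      · calc x * a = p⁻¹ * (p * x * p⁻¹ * b) * p := by rw [ha]; group
          _ = p⁻¹ * (b * (p * x * p⁻¹)) * p := by rw [hx2]
          _ = a * x := by rw [ha]; group
  have c1 : Nat.card (V ⊓ centralizer ({a} : Set G) : Subgroup G) =
      Nat.card (V ⊓ centralizer ({b} : Set G) : Subgroup G) := by rw [hab, Choice.card_conj]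
  have c2 : Nat.card (II V F B) ≤ Nat.card (V ⊓ centralizer ({b} : Set G) : Subgroup G) := by
    refine Subgroup.card_le_of_le (le_inf h.II_le_V fun x hx => ?_)
    exact mem_centralizer_singleton_iff.2 (h.II_cent hb hx).symm
  have c3 : Nat.card I' = Nat.card (II V F B) := by rw [hI', Choice.card_conj]
  have r1 : (centralizer ({a} : Set G)).relIndex V ≤ I'.relIndex V := by
    have e1 := Flat.card_mul_relIndex' (inf_le_left : V ⊓ centralizer ({a} : Set G) ≤ V)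
    have e2 := Flat.card_mul_relIndex' hI'V
    rw [inf_relIndex_left] at e1
    have e3 : 0 < Nat.card (V ⊓ centralizer ({a} : Set G) : Subgroup G) := Nat.card_pos
    refine Nat.le_of_mul_le_mul_left ?_ e3
    rw [e1, ← e2]
    exact Nat.mul_le_mul_right _ (by rw [c3, c1]; exact c2)
  have r2 : (centralizer ({a} : Set G)).relIndex U' ≤ (centralizer ({a} : Set G)).relIndex V :=
    relIndex_le_of_le_right hU'V index_ne_zero_of_finite
  have r3 : I'.relIndex V = I'.relIndex U' := by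
    have hn : U' ≤ normalizer (I' : Set G) := by
      refine le_trans ?_ (centralizer_le_normalizer _)
      intro x hx
      rw [mem_centralizer_iff]
      exact fun y hy => h.hyp.V_comm (hI'V hy) (hU'V hx)
    rw [← hVeq]
    have e1 := Flat.Off.card_sup_mul_inf hn
    have e2 := Flat.card_mul_relIndex' (le_sup_right : I' ≤ U' ⊔ I')
    have e3 := Flat.card_mul_relIndex' (inf_le_left : U' ⊓ I' ≤ U')
    rw [inf_relIndex_left] at e3
    have p1 : 0 < Nat.card (U' ⊓ I' : Subgroup G) := Nat.card_pos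
    have p2 : 0 < Nat.card I' := Nat.card_pos
    refine Nat.eq_of_mul_eq_mul_left (Nat.mul_pos p1 p2) ?_
    calc Nat.card (U' ⊓ I' : Subgroup G) * Nat.card I' * I'.relIndex (U' ⊔ I')
        = Nat.card (U' ⊓ I' : Subgroup G) * (Nat.card I' * I'.relIndex (U' ⊔ I')) := by ring
      _ = Nat.card (U' ⊓ I' : Subgroup G) * Nat.card (U' ⊔ I' : Subgroup G) := by rw [e2]
      _ = Nat.card (U' ⊔ I' : Subgroup G) * Nat.card (U' ⊓ I' : Subgroup G) := by ring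
      _ = Nat.card U' * Nat.card I' := e1
      _ = Nat.card (U' ⊓ I' : Subgroup G) * I'.relIndex U' * Nat.card I' := by rw [e3]
      _ = Nat.card (U' ⊓ I' : Subgroup G) * Nat.card I' * I'.relIndex U' := by ring
  have r4 : (centralizer ({a} : Set G)).relIndex U' ≤ I'.relIndex U' := by
    rw [← r3]; exact r2.trans r1
  have r5 : Nat.card (U' ⊓ I' : Subgroup G) ≤ Nat.card (U' ⊓ centralizer ({a} : Set G) : Subgroup G) := by
    have e1 := Flat.card_mul_relIndex' (inf_le_left : U' ⊓ centralizer ({a} : Set G) ≤ U')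
    have e2 := Flat.card_mul_relIndex' (inf_le_left : U' ⊓ I' ≤ U')
    rw [inf_relIndex_left] at e1 e2
    have e3 : 0 < I'.relIndex U' := Nat.pos_of_ne_zero index_ne_zero_of_finite
    refine Nat.le_of_mul_le_mul_right ?_ e3
    rw [e2, ← e1]
    exact Nat.mul_le_mul_left _ r4
  have hE := Subgroup.eq_of_le_of_card_ge hC r5
  have hD1 : MulAut.conj g⁻¹ • D = D := Flat.conj_eq_of_norm (h.DP₂ (inv_mem hg))
  have hD2 : D ≤ U' ⊓ I' := by
    refine le_inf ?_ ?_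
    · have h3 := NoFF.Basic.conj_le_iff (g := g⁻¹) |>.2 h.D_le_UU
      rwa [hD1] at h3
    · have h3 := NoFF.Basic.conj_le_iff (g := g⁻¹) |>.2 (h.D_le_F.trans (le_sup_right : F ≤ II V F B))
      rwa [hD1] at h3
  rw [← hE] at hD2
  rw [mem_centralizer_iff]
  exact fun d hd => mem_centralizer_singleton_iff.1 (hD2 hd).2

theorem mem_norm_of_le {X : Subgroup G} {x : G} (hx : MulAut.conj x • X ≤ X) : x ∈ normalizer (X : Set G) := by
  have h1 : MulAut.conj x • X = X := Subgroup.eq_of_le_of_card_ge hx (by rw [Choice.card_conj])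
  rw [mem_normalizer_iff]
  intro y
  constructor
  · intro hy
    have := NOne.Frame.conj_mem (g := x) hy
    rwa [h1] at this
  · intro hy
    rw [← h1, NoFF.Basic.mem_conj] at hy
    have e : x⁻¹ * (x * y * x⁻¹) * x = y := by group
    rwa [e] at hy

/-- **(P1)** -/
theorem le_EE {p : G} (hp : p ∈ P₀) : MulAut.conj p • D ≤ Flat.EE V F := by
  by_contra hne
  obtain ⟨w, hw, hwE⟩ := Set.not_subset.1 hne
  have hV := h.V_le hp hw hwE
  have hwV : w ∈ V := h.DD_le_V hp hw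
  -- `b ∈ B` moves `w`
  obtain ⟨b, hb, hbN⟩ := Set.not_subset.1 h.BN
  have hcw : c w b ∉ F := fun h1 => hbN ((h.hyp.c_mem_F_iff hwV hwE (h.BW hb)).1 h1)
  set a : G := p⁻¹ * b * p with ha
  have haS : a ∈ S := h.a_mem hp hb
  have haD : a ∉ centralizer (D : Set G) := by
    intro h1
    apply hcw
    have h2 : p⁻¹ * w * p ∈ D := NoFF.Basic.mem_conj.1 hw
    have h3 := mem_centralizer_iff.1 h1 _ h2
    have h4 : w * b = b * w := by
      calc w * b = p * (p⁻¹ * w * p * a) * p⁻¹ := by rw [ha]; group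
        _ = p * (a * (p⁻¹ * w * p)) * p⁻¹ := by rw [h3]
        _ = b * w := by rw [ha]; group
    rw [c_def, h4, mul_inv_cancel_right, mul_inv_cancel]
    exact one_mem _
  -- (e)
  have hkey : ∀ g ∈ P₂, ∃ s ∈ S, MulAut.conj (g * a * g⁻¹) • ρ = MulAut.conj s • ρ := by
    intro g hg
    have hag : g * a * g⁻¹ ∈ P₂ := mul_mem (mul_mem hg (h.SP₂ haS)) (inv_mem hg)
    have hW1 : ∀ w ∈ Flat.WW V F, g * a * g⁻¹ * w * (g * a * g⁻¹)⁻¹ ∈ S := fun w hw =>
      h.Q₂ _ hag w (h.WS hw) (h.pas hw)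
    refine h.key _ hag hW1 ?_
    by_contra hno
    push Not at hno
    exact haD (h.cent_D hV hp hb hg fun w hw => ⟨hW1 w hw, hno w hw⟩)
  set X : Subgroup G := ⨆ s : S, MulAut.conj (s : G) • ρ with hX
  have hsX : ∀ s ∈ S, MulAut.conj s • ρ ≤ X := fun s hs =>
    le_iSup (fun s : S => MulAut.conj (s : G) • ρ) ⟨s, hs⟩
  have hSX : S ≤ normalizer (X : Set G) := by
    intro t ht
    apply h.mem_norm_of_le
    have h1 : X ≤ MulAut.conj t⁻¹ • X := by
      refine iSup_le fun s => ?_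
      have h2 := NoFF.Basic.conj_le_iff (g := t⁻¹) |>.2 (hsX _ (mul_mem ht s.2))
      rwa [NoFF.Basic.conj_conj, inv_mul_cancel_left] at h2
    have h2 := NoFF.Basic.conj_le_iff (g := t) |>.2 h1
    rwa [NoFF.Basic.conj_conj, mul_inv_cancel, map_one, one_smul] at h2
  set N : Subgroup G := closure {x | ∃ g ∈ P₂, x = g * a * g⁻¹} with hN
  have hNP : N ≤ P₂ := by
    rw [hN, closure_le]
    rintro _ ⟨g, hg, rfl⟩
    exact mul_mem (mul_mem hg (h.SP₂ haS)) (inv_mem hg)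
  have hNX : N ≤ normalizer (X : Set G) := by
    rw [hN, closure_le]
    rintro _ ⟨g, hg, rfl⟩
    apply h.mem_norm_of_le
    have h1 : X ≤ MulAut.conj (g * a * g⁻¹)⁻¹ • X := by
      refine iSup_le fun s => ?_
      obtain ⟨t, ht, hst⟩ := hkey ((s : G)⁻¹ * g) (mul_mem (inv_mem (h.SP₂ s.2)) hg)
      have h2 := hsX _ (mul_mem s.2 ht)
      rw [← NoFF.Basic.conj_conj, ← hst, NoFF.Basic.conj_conj] at h2
      have h3 := NoFF.Basic.conj_le_iff (g := (g * a * g⁻¹)⁻¹) |>.2 h2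
      rw [NoFF.Basic.conj_conj] at h3
      have e : (g * a * g⁻¹)⁻¹ * ((s : G) * ((s : G)⁻¹ * g * a * ((s : G)⁻¹ * g)⁻¹)) = s := by group
      rwa [e] at h3
    have h2 := NoFF.Basic.conj_le_iff (g := g * a * g⁻¹) |>.2 h1
    rwa [NoFF.Basic.conj_conj, mul_inv_cancel, map_one, one_smul] at h2
  have hPN : P₂ ≤ normalizer (N : Set G) := by
    intro g hg
    apply h.mem_norm_of_le
    have h1 : N ≤ MulAut.conj g⁻¹ • N := by
      rw [hN, closure_le]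
      rintro _ ⟨k, hk, rfl⟩
      rw [SetLike.mem_coe, NoFF.Basic.mem_conj]
      refine subset_closure ⟨g * k, mul_mem hg hk, by group⟩
    have h2 := NoFF.Basic.conj_le_iff (g := g) |>.2 h1
    rwa [NoFF.Basic.conj_conj, mul_inv_cancel, map_one, one_smul] at h2
  have haN : a ∈ N := subset_closure ⟨1, one_mem _, by group⟩
  have hPX : P₂ ≤ normalizer (X : Set G) := (h.gen N hNP hPN a haN haS haD).trans (sup_le hNX hSX)
  have hDX := h.Dgen X hsX hPX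
  have hXL : X ≤ L := by
    refine iSup_le fun s => ?_
    have h1 := NoFF.Basic.conj_le_iff (g := (s : G)) |>.2 h.ρL
    rwa [Flat.conj_eq_of_norm (h.LP₀ (h.SP₀ s.2))] at h1
  apply hne
  have h1 := NoFF.Basic.conj_le_iff (g := p) |>.2 (hDX.trans hXL)
  rw [Flat.conj_eq_of_norm (h.LP₀ hp)] at h1
  exact h1.trans h.L_le_EE

end PasB

end Cfsg.Agent.Omega.NO3S.Pas
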