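import Cfsg.Agent.Omega.NOThreeL.Low.PSeven
import Cfsg.Agent.Omega.NOThreeL.Low.SymCase
import Cfsg.Agent.Omega.NOThreeL.Low.Dich

/-!
# GammaFF: `|V : E| = |I : F|`, the KEY for galleries of length `≥ 1` (helper876 #19093 (3), (4))

`BH V F B` : `F ≤ B ≤ W`, `B` abelian, normalised by `C_G(F)`, `I = V ∩ B`; `B ≤ S`; `U = V_P ≤ V` a bad line (`U ≰ E`) with
`U` of type natural^k or `S_n^k` (`Tp S P`).

* `three` : `|I : F| ≤ |U : U ∩ E|`;
* `three_of_ff` : the same, if `C_Z(P) = 1` and `V_P ≤ O₂(C_G(Z))`;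
* `sup_eq` : `V = U E`; `relIndex_eq` : `|V : E| = |I : F|`.
-/

set_option autoImplicit false
set_option linter.unusedSectionVars false

namespace Cfsg.Agent.Omega.NO3S.Pas

open Subgroup Cfsg Cfsg.Agent.ZN Cfsg.Agent.Omega.MinPar Cfsg.Agent.Omega.Frame Cfsg.Agent.Omega.FrameNOFF
open Cfsg.Agent.Omega.NOne.Flat (Hyp EE WW NN BadX Cos card_mul_relIndex')
open Cfsg.Agent.Omega.NOne.NearFF (c)
open Cfsg.Agent.Omega.FFThm (NatK NatKM SymKM ActsSL OffM)
open Cfsg.Agent.Omega.Half (Amb amb_of_loc)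
open Cfsg.Agent.Omega.Half.NatA (inj eq_one e_one e_inv Mv)
open Cfsg.Agent.Omega.NO1.NSix
open Cfsg.Agent.Omega.NatPair (ap ext2 ap_zero' ap_one' exists_ap ap_one)
open Cfsg.Agent.Lib.SL2Mat
open Cfsg.Agent.Omega.NOThreeL.Low (Tp Blk)
open Cfsg.Agent.Omega.NOThreeL.Low.Key (BH)
open Cfsg.Agent.Omega.NOThreeL.Low.PSeven (blk_em em_blk blk_mul blk_inv blk_ext)
open scoped Pointwise

universe u

variable {G : Type u} [Group G] [Finite G] {S : Sylow 2 G} {P V F B : Subgroup G}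

/-- The input of P7 from a failure of `|I : F| ≤ 2`. -/
theorem qb (bh : BH V F B) (hsq : ∀ b ∈ B, b ^ 2 = 1) (hBS : B ≤ (S : Subgroup G))
    (hUV : zl (S : Subgroup G) P ≤ V) (h2 : 2 < F.relIndex (V ⊓ B)) :
    NOThreeL.Low.Nat.QB (S : Subgroup G) (zl (S : Subgroup G) P) B (EE V F) where
  BS := hBS
  ab := fun _ hb _ hc => bh.B_comm hb hc
  sq := fun b hb => by rw [← pow_two]; exact hsq b hb
  quad := fun v hv b hb c' hc => by
    have h1 := bh.quad (hUV hv) hb hc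
    have h2 : b * v * b⁻¹ * v⁻¹ = (c v b)⁻¹ := by rw [c]; group
    rw [h2]
    calc c' * (c v b)⁻¹ = (c v b)⁻¹ * (c v b * c') * (c v b)⁻¹ := by group
      _ = (c v b)⁻¹ * (c' * c v b) * (c v b)⁻¹ := by rw [h1]
      _ = (c v b)⁻¹ * c' := by group
  t1 := fun w hw hwE hall => absurd h2 (not_lt.2 (bh.relIndex_le_two (hUV hw) hwE hall))

/-- **(3)** -/
theorem three (hc : IsCharacteristicTwoType G) (hP : IsParS (S : Subgroup G) P) (hT : Tp (S : Subgroup G) P)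
    (bh : BH V F B) (hsq : ∀ b ∈ B, b ^ 2 = 1) (hBS : B ≤ (S : Subgroup G)) (hUV : zl (S : Subgroup G) P ≤ V)
    (hUE : ¬ zl (S : Subgroup G) P ≤ EE V F) :
    F.relIndex (V ⊓ B) ≤ (EE V F).relIndex (zl (S : Subgroup G) P) := by
  by_contra hlt
  push Not at hlt
  have h0 : (EE V F).relIndex (zl (S : Subgroup G) P) ≠ 0 := index_ne_zero_of_finite
  have h1 : (EE V F).relIndex (zl (S : Subgroup G) P) ≠ 1 := fun h1 => hUE (relIndex_eq_one.1 h1)
  have h2 : 2 < F.relIndex (V ⊓ B) := by omega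
  have hQ := qb (P := P) bh hsq hBS hUV h2
  have hI : ¬ V ⊓ B ≤ F := fun h => by
    rw [relIndex_eq_one.2 h] at h2
    omega
  rcases hT with ⟨K, fK, fiK, cK, k, hk, ⟨N⟩⟩ | ⟨k, m, hk, hm, ⟨M⟩⟩
  · have hA : Amb (S : Subgroup G) P (zl (S : Subgroup G) P) := amb_of_loc hc S hP.toIsPar.isLoc
    -- a bad block
    obtain ⟨i, w, hw, hwE⟩ : ∃ i : Fin k, ∃ w, Blk N i w ∧ w ∉ EE V F := by
      by_contra hall
      push Not at hall
      exact hUE fun v hv => mem_of_em N.toNatK hv fun j => hall j _ (em_blk N j _)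
    have hi : NOThreeL.Low.Nat.Bad N.toNatK (EE V F) i := by
      refine ⟨N.e w i, ?_⟩
      rwa [blk_em N hw]
    have hact : ∀ b ∈ B, ∃ x : K, ∀ v, Blk N i v →
        Blk N i (b * v * b⁻¹) ∧ N.e (b * v * b⁻¹) i = ap (up x) (N.e v i) := by
      intro b hb
      obtain ⟨x, hx⟩ := hQ.exists_up hA hi hb
      refine ⟨x, fun v hv => ⟨⟨hA.conj_mem (hQ.BP hA hb) hv.1, fun j hj => ?_⟩, hx v hv.1⟩⟩
      obtain ⟨σ, hσ⟩ := N.perm b (hQ.BP hA hb)
      have hσi : σ i = i := hQ.fix hA hi hb hσ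
      have h1 := (hσ v hv.1 (σ.symm j)).2 (hv.2 _ fun h2 => hj (by rw [← hσi, ← h2, σ.apply_symm_apply]))
      rwa [σ.apply_symm_apply] at h1
    classical
    choose x hx using hact
    have act : NOThreeL.Low.PSeven.Act N B i (fun b => if hb : b ∈ B then x b hb else 0) := by
      intro b hb v hv
      have h1 := hx b hb v hv
      simp only [dif_pos hb]
      exact h1
    set β : G → K := fun b => if hb : b ∈ B then x b hb else 0 with hβ
    obtain ⟨b₀, hb₀, hb₀N⟩ := bh.exists_not_mem_NN hI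
    have hβ0 : β b₀ ≠ 0 := by
      intro h3
      refine hb₀N (bh.mem_NN_of_c (hUV hw.1) hwE hb₀ ?_)
      rw [act.c_eq_one hb₀ hw (by rw [h3, zero_mul])]
      exact one_mem F
    -- `w' ↦ [w', b₀] F` maps `U` onto `I / F`
    have hcos : Cos (fun w' => c w' b₀) (zl (S : Subgroup G) P) (EE V F) (V ⊓ B) F :=
      ⟨fun u hu => bh.c_memI (hUV hu) hb₀, fun u hu u' hu' => (bh.cos_V hb₀ hb₀N).iff u (hUV hu) u' (hUV hu')⟩
    have hs : (EE V F).relIndex (zl (S : Subgroup G) P) = F.relIndex (V ⊓ B) := by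
      refine hcos.eq_of_surj fun y hy => ?_
      obtain ⟨b, hb, hby⟩ := bh.surj (hUV hw.1) hwE hy
      have hw' := em_blk N i ![0, β b * N.e w i 1 / β b₀]
      refine ⟨em N.toNatK i ![0, β b * N.e w i 1 / β b₀], hw'.1, ?_⟩
      have h3 : c (em N.toNatK i ![0, β b * N.e w i 1 / β b₀]) b₀ = c w b := by
        refine blk_ext (act.c_blk hb₀ hw') (act.c_blk hb hw) ?_ ?_
        · rw [act.c_zero hb₀ hw', act.c_zero hb hw, e_em_self]
          change β b₀ * (β b * N.e w i 1 / β b₀) = β b * N.e w i 1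
          field_simp
        · rw [act.c_one hb₀ hw', act.c_one hb hw]
      change (c (em N.toNatK i ![0, β b * N.e w i 1 / β b₀]) b₀)⁻¹ * y ∈ F
      rw [h3]
      exact hby
    omega
  · refine hUE (NOThreeL.Low.SymCase.le_of_t1 M.toSymK hP.le (MinSimple.VModule.le_normalizer_zl _ _) hBS ?_ ?_)
    · exact fun w hw b hb b' hb' => hQ.quad w hw b hb b' hb'
    · exact fun w hw hwE h1 => hQ.t1 w hw hwE h1

end Cfsg.Agent.Omega.NO3S.Pas
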